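import Cfsg.Agent.N2.Ex.CC.Defs

/-!
# N2 (S3519), `E₆`, `E₇`, box `Cj`: conjugacy of the frames under `Cc` (helper89)
-/

set_option autoImplicit false
set_option linter.unusedSectionVars false

namespace Cfsg.Agent.N2.Ex.CC

open CoxeterSystem Cfsg Cfsg.Lie Cfsg.Lie.ChevalleyDatum
open Cfsg.Agent.ChevalleyStructure Cfsg.Agent.ChevalleyStructure.CoxeterGeom Cfsg.Agent.Tits.Roots Cfsg.Agent.Nodes
  Cfsg.Agent.Nodes.BNOf Cfsg.Agent.Nodes.RGDChev Cfsg.Agent.Nodes.Reps Cfsg.Agent.Nodes.NormalForm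
open Cfsg.Agent.KFacts.RgdChevCoord Cfsg.Agent.BpExc.Fr Cfsg.Agent.BpExc.LangFr Cfsg.Agent.BpExc.Tow
open Cfsg.Agent.H469.Exc Cfsg.Agent.H129.TorusChar Cfsg.Agent.DS.Ex Cfsg.Agent.DS.Nt
open Cfsg.Agent.DS.Ex.Tor (RT MS)
open Cfsg.Agent.N2.Ex.Al (LL)

namespace Cj

variable {D : ChevalleyDatum} {l : ℕ} {M : CoxeterMatrix (Fin l)} {hp : IsType D l M} {p : ℕ} [Fact p.Prime]

local notation "ρ" => rep M.toCoxeterSystem hp.isCartan
local notation "𝒫" => RGD.Pos M.toCoxeterSystem hp.isCartan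
local notation "𝒩" => NW M.toCoxeterSystem hp.isCartan

theorem conj_MS {w : M.Group} {k m : YY D p} (hk : RP hp p w k) {S S' : Set (LL l)} (h : ∀ a ∈ S, RT hp a ∧ ρ w a ∈ S')
    (hm : m ∈ MS D p S) : k * m * k⁻¹ ∈ MS D p S' := by
  have h1 : MS D p S ≤ (MS D p S').comap (MulAut.conj k).toMonoidHom := RGD.Sup_le fun a ha y hy =>
    RGD.le_Sup (h a ha).2 (by rw [← hk.cj_X (h a ha).1]; exact conj_mem_cj.2 hy)
  exact h1 hm

theorem nf (y : YY D p) : ∃ x, ∃ u ∈ MS D p 𝒫, ∃ k, RP hp p x k ∧ ∃ v ∈ MS D p (𝒩 x), y = u * k * v := by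
  have := finW hp
  have h := (tw hp p).exists_normal_form (g := y) (by rw [GGW hp p]; exact Subgroup.mem_top _)
  rwa [XLe hp p] at h

/-- comparison of normal forms -/
theorem nf_comm {x w w' : M.Group} {u k v f f' : YY D p} (hu : u ∈ MS D p 𝒫) (hk : RP hp p x k) (hv : v ∈ MS D p (𝒩 x))
    (hf : RP hp p w f) (hf' : RP hp p w' f') (h1 : f * u * f⁻¹ ∈ MS D p 𝒫) (h2 : f' * v * f'⁻¹ ∈ MS D p (𝒩 (w * x * w'⁻¹)))
    (e : u * k * v * f' * (u * k * v)⁻¹ = f) : f * u = u * f ∧ k * f' * k⁻¹ = f ∧ f' * v = v * f' := by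
  have := finW hp
  simp only [MS, ← XLe hp p] at hu hv h1 h2
  obtain ⟨-, k1, k2, k3⟩ := (tw hp p).normal_form_unique h1 hu ((hf.mul hk).mul hf'.inv) hk h2 hv (by
    rw [show f * u * f⁻¹ * (f * k * f'⁻¹) * (f' * v * f'⁻¹) = f * (u * k * v) * f'⁻¹ by group, ← e]
    group)
  refine ⟨mul_inv_eq_iff_eq_mul.1 k1, ?_, mul_inv_eq_iff_eq_mul.1 k3⟩
  rw [← mul_inv_eq_iff_eq_mul.1 k2, mul_inv_cancel_right]

/-- the centraliser of an element of the torus in a unipotent group -/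
theorem cen_PW (x : M.Group) {t v : YY D p} (ht : t ∈ TT D (KK p))
    (hv : v ∈ MS D p (StabComb.PW M.toCoxeterSystem hp.isCartan x)) (e : t * v = v * t) :
    v ∈ MS D p (StabComb.PW M.toCoxeterSystem hp.isCartan x ∩ Ps hp p {t}) := by
  have := finW hp
  have H := tw hp p
  rw [← TLe hp p] at ht
  simp only [MS, ← XLe hp p] at hv ⊢
  obtain ⟨j1, h1⟩ := H.mem_TL.1 ht
  obtain ⟨j2, h2⟩ := H.mem_Sup.1 hv
  obtain ⟨j, b1, b2⟩ := H.dir j1 j2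
  have h3 := centralizer_PW (H.rgd j) x (S := {t}) (Set.singleton_subset_iff.2 (H.monoT b1 h1)) (H.mono_Sup _ b2 h2)
    (Subgroup.mem_centralizer_singleton_iff.2 e.symm)
  refine RGD.Sup_le (K := RGD.Sup (XL (BpExc.TowChev.Xj hp)) _) (fun a ha => ?_) h3
  rintro y ⟨hy, hc⟩
  by_cases hy1 : y = 1
  · rw [hy1]
    exact one_mem _
  have h4 := le_XL j a hy
  refine RGD.le_Sup (S := StabComb.PW M.toCoxeterSystem hp.isCartan x ∩ Ps hp p {t}) ⟨ha, ha.1, ?_⟩ h4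
  rintro _ rfl
  exact (BpExc.TorCent.mem_Sx_of_centralizer (coW hp p) ht ha.1 h4 hy1 hc).2

theorem cen_P {t v : YY D p} (ht : t ∈ TT D (KK p)) (hv : v ∈ MS D p 𝒫) (e : t * v = v * t) :
    v ∈ MS D p (𝒫 ∩ Ps hp p {t}) := by
  have h : 𝒫 = StabComb.PW M.toCoxeterSystem hp.isCartan 1 := Set.ext fun a =>
    ⟨fun h => ⟨h.1, h.2, by rw [map_one]; exact h.2⟩, fun h => ⟨h.1, h.2.1⟩⟩
  rw [h] at hv ⊢
  exact cen_PW 1 ht hv e

theorem cen_N (x : M.Group) {t v : YY D p} (ht : t ∈ TT D (KK p)) (hv : v ∈ MS D p (𝒩 x)) (e : t * v = v * t) :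
    v ∈ MS D p (𝒩 x ∩ Ps hp p {t}) := by
  have := finW hp
  obtain ⟨z, hz⟩ := Sys.exists_longest M.toCoxeterSystem hp.isCartan
  have h : 𝒩 x = StabComb.PW M.toCoxeterSystem hp.isCartan (z⁻¹ * x) := Set.ext fun a =>
    ⟨fun h => ⟨h.1, h.2.1, by
      have h1 := hz _ (h.1.act x).neg (neg_nonneg.2 h.2.2)
      rwa [map_neg, neg_nonpos, ← rep_mul_apply] at h1⟩,
    fun h => ⟨h.1, h.2.1, (h.1.act x).pos_or_neg.resolve_left fun h1 =>
      (h.1.act (z⁻¹ * x)).not_pos_neg h.2.2 (by rw [rep_mul_apply]; exact hz _ (h.1.act x) h1)⟩⟩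
  rw [h] at hv ⊢
  exact cen_PW _ ht hv e

theorem ps_act {x : M.Group} {k e e' : YY D p} (hk : RP hp p x k) (he : e ∈ TT D (KK p)) (he' : e' ∈ TT D (KK p))
    (h : k * e' * k⁻¹ = e) {a : LL l} (ha : a ∈ Ps hp p {e'}) : ρ x a ∈ Ps hp p {e} := by
  rw [mem_Ps (Set.singleton_subset_iff.2 he')] at ha
  rw [mem_Ps (Set.singleton_subset_iff.2 he)]
  refine ⟨ha.1.act x, ?_⟩
  rintro _ rfl
  rw [← h, hk.cX he']
  exact ha.2 _ rfl

theorem ps_neg {e : YY D p} (he : e ∈ TT D (KK p)) {a : LL l} (ha : a ∈ Ps hp p {e}) : -a ∈ Ps hp p {e} :=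
  H795.SetCent.SxZ_neg (coW hp p) (sub_TL (Set.singleton_subset_iff.2 he)) (chW hp p) ha

/-- an invariant height function -/
theorem exists_mu {e f : YY D p} {w : M.Group} (h : Qs hp p e f w) :
    ∃ μ : LL l →+ ℤ, (∀ x, μ (ρ w x) = μ x) ∧ ∀ a ∈ Ps hp p {e}, 0 ≤ a → 0 < μ a := by
  have := finW hp
  have h0 : 0 < orderOf w := orderOf_pos w
  refine ⟨AddMonoidHom.mk' (fun x => ∑ i ∈ Finset.range (orderOf w), ∑ j, ρ (w ^ i) x j) fun x y => by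
    simp only [map_add, Pi.add_apply, Finset.sum_add_distrib], fun x => ?_, fun a ha h1 => ?_⟩
  · have h1 := Finset.sum_range_succ (fun i => ∑ j, ρ (w ^ i) x j) (orderOf w)
    rw [Finset.sum_range_succ', pow_orderOf_eq_one, pow_zero] at h1
    simp only [pow_succ, rep_mul_apply] at h1
    exact add_right_cancel h1
  · have h2 : ∀ i : ℕ, ρ (w ^ i) a ∈ Ps hp p {e} ∧ 0 ≤ ρ (w ^ i) a := fun i => by
      induction i with
      | zero => rw [pow_zero, map_one]; exact ⟨ha, h1⟩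
      | succ i ih =>
        rw [pow_succ', rep_mul_apply]
        exact ⟨ps_act h.rp h.mem h.mem (by rw [h.comm, mul_inv_cancel_right]) ih.1, h.pos _ ih.1 ih.2⟩
    refine Finset.sum_pos (fun i _ => ?_) ⟨0, Finset.mem_range.2 h0⟩
    obtain ⟨j, hj⟩ := Function.ne_iff.1 (h2 i).1.1.ne_zero
    exact Finset.sum_pos' (fun j _ => (h2 i).2 j) ⟨j, Finset.mem_univ j, lt_of_le_of_ne ((h2 i).2 j) (Ne.symm hj)⟩

theorem mem_Cc (hC : BoxCur) (hD : Typ D) {e f u : YY D p} {w : M.Group} (h : Qs hp p e f w) {μ : LL l →+ ℤ}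
    (h1 : ∀ x, μ (ρ w x) = μ x) {S : Set (LL l)} (h2 : ∀ a ∈ S, RT hp a ∧ 0 < μ a) (hu : u ∈ MS D p S) (k1 : e * u = u * e)
    (k2 : f * u = u * f) : u ∈ Cc p {e, f} := by
  refine hC D l M hp p hD μ S {e, f} u h2 hu ?_ fun t ht c _ hc => ?_
  · rintro _ (rfl | rfl)
    exacts [k1, k2]
  · rintro _ (rfl | rfl)
    exacts [BpExc.TorChev.TT_comm hp _ h.mem t ht, h.rp.comm ht fun x => by rw [hc, hc, h1]]

end Cj

open Cj in
/-- **[Cj]** -/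
theorem boxCj : BoxCj := fun hC D l M hp p _ hD e f e' f' y w w' h h' e1 e2 => by
  obtain ⟨x, u, hu, k, hk, v, hv, rfl⟩ := nf (hp := hp) y
  obtain ⟨a1, a2, a3⟩ := nf_comm hu hk hv (RP.of_mem h.mem) (RP.of_mem h'.mem)
    (conj_MS (hp := hp) (RP.of_mem h.mem) (fun a ha => ⟨ha.1, by rwa [map_one]⟩) hu)
    (conj_MS (hp := hp) (RP.of_mem h'.mem) (fun a ha => ⟨ha.1, by rwa [map_one, inv_one, one_mul, mul_one]⟩) hv) e1
  have hu' := cen_P (hp := hp) h.mem hu a1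
  have hv' := cen_N (hp := hp) x h'.mem hv a3
  obtain ⟨b1, b2, b3⟩ := nf_comm hu hk hv h.rp h'.rp
    (conj_MS h.rp (fun a ha => ⟨ha.1.1, ha.1.1.act w, h.pos a ha.2 ha.1.2⟩) hu')
    (conj_MS h'.rp (fun a ha => ⟨ha.1.1, ha.1.1.act w', h'.pos a ha.2 ha.1.2.1, by
      have h1 := h.pos _ (ps_neg (hp := hp) h.mem (ps_act hk h.mem h'.mem a2 ha.2)) (neg_nonneg.2 ha.1.2.2)
      rw [map_neg, neg_nonneg] at h1
      rw [← rep_mul_apply, inv_mul_cancel_right, rep_mul_apply]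
      exact h1⟩) hv') e2
  obtain ⟨μ, m1, m2⟩ := exists_mu h
  have c1 := mem_Cc hC hD h m1 (fun a ha => ⟨ha.1.1, m2 a ha.2 ha.1.2⟩) hu' a1 b1
  have c2 := mem_Cc hC hD h (μ := -μ) (fun x => congrArg Neg.neg (m1 x)) (S := {a | a ∈ Ps hp p {e} ∧ a ≤ 0})
    (fun a ha => ⟨ha.1.1, by
      have h1 := m2 _ (ps_neg (hp := hp) h.mem ha.1) (neg_nonneg.2 ha.2)
      rwa [map_neg] at h1⟩)
    (conj_MS hk (fun a ha => ⟨ha.1.1, ps_act hk h.mem h'.mem a2 ha.2, ha.1.2.2⟩) hv')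
    (by rw [← a2, show k * e' * k⁻¹ * (k * v * k⁻¹) = k * (e' * v) * k⁻¹ by group, a3]; group)
    (by rw [← b2, show k * f' * k⁻¹ * (k * v * k⁻¹) = k * (f' * v) * k⁻¹ by group, b3]; group)
  exact ⟨_, mul_mem c1 c2, x, by rwa [show (u * (k * v * k⁻¹))⁻¹ * (u * k * v) = k by group]⟩

end Cfsg.Agent.N2.Ex.CC
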