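import Cfsg.Agent.N2.Ex.CC.Defs

/-!
# N2 (S3519), `BoxCur`: unipotent elements contracted by a cocharacter (helper54)
-/

set_option autoImplicit false
set_option linter.unusedSectionVars false
set_option maxHeartbeats 400000

namespace Cfsg.Agent.N2.Ex.CC

open CoxeterSystem Cfsg Cfsg.Lie Cfsg.Lie.ChevalleyDatum
open Cfsg.Agent.ChevalleyStructure Cfsg.Agent.ChevalleyStructure.CoxeterGeom Cfsg.Agent.Tits.Roots Cfsg.Agent.Nodes
  Cfsg.Agent.Nodes.BNOf Cfsg.Agent.Nodes.RGDChev Cfsg.Agent.Nodes.Coroot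
open Cfsg.Agent.KFacts.RgdChevCoord Cfsg.Agent.BpExc.Fr Cfsg.Agent.BpExc.LangFr
open Cfsg.Agent.H469.Exc Cfsg.Agent.H316.U6 Cfsg.Agent.H129.TorusChar Cfsg.Agent.DS.Ex Cfsg.Agent.DS.Nt
open Cfsg.Agent.DS.Ex.Tor (RT FR MS)
open Cfsg.Agent.N2.Ex.Al (LL cp ac GW Ch)

namespace Cur

variable {D : ChevalleyDatum} {l : ℕ} {M : CoxeterMatrix (Fin l)} (hp : IsType D l M) (p : ℕ) [Fact p.Prime]

/-- the elements whose orbit under the cocharacter `μ` is a polynomial curve through `1` -/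
def Kc (μ : LL l →+ ℤ) : Subgroup (YY D p) where
  carrier := {u | ∃ γ : GL D.Idx (Polynomial (KK p)), LangThm.ev (0 : KK p) γ = 1 ∧
    ∀ t ∈ TT D (KK p), ∀ c : KK p, c ≠ 0 → (∀ x, cX hp t x = c ^ μ x) →
      ((t * u * t⁻¹ : YY D p) : GL D.Idx (KK p)) = LangThm.ev c γ}
  one_mem' := ⟨1, map_one _, fun t _ c _ _ => by rw [mul_one, mul_inv_cancel, map_one]; rfl⟩
  mul_mem' := by
    rintro u v ⟨γ, h1, h2⟩ ⟨δ, h3, h4⟩
    refine ⟨γ * δ, by rw [map_mul, h1, h3, one_mul], fun t ht c hc h => ?_⟩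
    rw [map_mul, ← h2 t ht c hc h, ← h4 t ht c hc h, ← Subgroup.coe_mul]
    congr 1
    group
  inv_mem' := by
    rintro u ⟨γ, h1, h2⟩
    refine ⟨γ⁻¹, by rw [map_inv, h1, inv_one], fun t ht c hc h => ?_⟩
    rw [map_inv, ← h2 t ht c hc h, ← Subgroup.coe_inv]
    congr 1
    group

theorem X_le {μ : LL l →+ ℤ} {a : LL l} (ha : RT hp a) (hμ : 0 < μ a) : XX D l (KK p) a ≤ Kc hp p μ := by
  intro y hy
  obtain ⟨b, rfl⟩ := (mem_X (hp := hp) ha).1 hy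
  obtain ⟨s, hs, rfl⟩ := (isRoot_iff hp M.toCoxeterSystem a).1 ha
  obtain ⟨n, hn⟩ := Int.eq_ofNat_of_zero_le hμ.le
  have hn0 : n ≠ 0 := by
    rintro rfl
    rw [hn] at hμ
    exact lt_irrefl _ hμ
  refine ⟨LangThm.xP hp.inList s (Polynomial.C b * Polynomial.X ^ n), ?_, fun t ht c _ h => ?_⟩
  · rw [LangThm.ev_xP, Polynomial.eval_mul, Polynomial.eval_pow, Polynomial.eval_X, zero_pow hn0, mul_zero,
      Elts.xG_zero]
  · rw [(act hp hs ht).2, ← cX_vec hp ht hs, h, hn, zpow_natCast, coe_xc hp hs, LangThm.ev_xP, Polynomial.eval_mul,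
      Polynomial.eval_pow, Polynomial.eval_X, Polynomial.eval_C, mul_comm]

end Cur

theorem boxCur : BoxCur := by
  intro D l M hp p _ hD μ S Z u hS hu hZ hT
  obtain ⟨γ, h1, h2⟩ : u ∈ Cur.Kc hp p μ := RGD.Sup_le (fun a ha => Cur.X_le hp p (hS a ha).1 (hS a ha).2) hu
  refine Subgroup.subset_closure ⟨γ, ⟨h1, fun c => ?_⟩, 1, ?_⟩
  · by_cases hc : c = 0
    · exact ⟨1, one_mem _, by rw [hc, h1]; rfl⟩
    · obtain ⟨t, ht, h⟩ := exists_tor_zpow hp hD hc μ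
      have h3 : t ∈ Subgroup.centralizer Z := fun z hz => hT t ht c hc h z hz
      have h4 : u ∈ Subgroup.centralizer Z := fun z hz => hZ z hz
      exact ⟨t * u * t⁻¹, mul_mem (mul_mem h3 h4) (inv_mem h3), h2 t ht c hc h⟩
  · have h := h2 1 (one_mem _) 1 one_ne_zero fun x => by rw [cX_one, one_zpow]
    rwa [one_mul, inv_one, mul_one] at h

end Cfsg.Agent.N2.Ex.CC
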