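import Cfsg.Agent.N2.Ex.CC.Defs
import Cfsg.Agent.N2.Ex.Al.ElA

/-!
# N2 (S3519), `E₆`: the fixed vectors of a nine-group in the row `A₂³` (helper48)
-/

set_option autoImplicit false
set_option linter.unusedSectionVars false

namespace Cfsg.Agent.N2.Ex.CC

open CoxeterSystem Cfsg Cfsg.Lie Cfsg.Lie.ChevalleyDatum
open Cfsg.Agent.ChevalleyStructure Cfsg.Agent.ChevalleyStructure.CoxeterGeom Cfsg.Agent.Tits.Roots Cfsg.Agent.Nodes
  Cfsg.Agent.Nodes.BNOf Cfsg.Agent.Nodes.RGDChev Cfsg.Agent.Nodes.Coroot Cfsg.Agent.ChevalleyStructure.CoxeterGeomTypes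
open Cfsg.Agent.KFacts.RgdChevCoord Cfsg.Agent.BpExc.Fr Cfsg.Agent.BpExc.LangFr
open Cfsg.Agent.H469.Exc Cfsg.Agent.H316.U6 Cfsg.Agent.H129.TorusChar Cfsg.Agent.DS.Ex Cfsg.Agent.DS.Nt
open Cfsg.Agent.DS.Ex.Tor (RT FR MS)
open Cfsg.Agent.N2.Ex.Al (LL cp ac GW Ch)
open Cfsg.Agent.N2.Ex.Al.Av (wL_eq coord wt_eq)
open Cfsg.Agent.N2.Ex.K (mx wL rl)
open Cfsg.Agent.H931.KC (psi)

namespace D24

variable {D : ChevalleyDatum} {l : ℕ} {M : CoxeterMatrix (Fin l)} {hp : IsType D l M} {p : ℕ} [Fact p.Prime]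
  {v : M.Group} {y e f : YY D p}

/-- the matrix of `v` -/
def mv (V : List (List ℤ)) (x : LL l) : LL l := fun k => ∑ i, x i * lv l (V.getD i []) k

theorem ac_eq {V : List (List ℤ)} (h : ∀ i : Fin l, ac hp v (sr i) = lv l (V.getD i [])) (x : LL l) : ac hp v x = mv V x := by
  have h1 : x = ∑ i, x i • sr i := by
    funext k
    simp [sr, Pi.single_apply]
  funext k
  rw [h1, map_sum, Finset.sum_apply, ← h1]
  exact Finset.sum_congr rfl fun i _ => by rw [map_zsmul, h, Pi.smul_apply, smul_eq_mul]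

theorem single_zero (hy : RP hp p v y) {i j : D.Idx} (h : wL D l i ≠ ac hp v (wL D l j)) :
    ad D p y (Pi.single j 1) i = 0 := by
  rw [K.ad_eq, Matrix.mulVec_single_one]
  exact by_contra fun h0 => h (wL_eq hy h0)

theorem inT (hy : RP hp p v y) {h : D.Idx → KK p} (hh : K.InT p h) : K.InT p (ad D p y h) := fun s => by
  show ∑ j, mx y (Sum.inr s) j * h j = 0
  refine Finset.sum_eq_zero fun j _ => ?_
  rcases j with j | j
  · refine mul_eq_zero_of_left (by_contra fun h0 => (K.rt_vec hp s).ne_zero ?_) _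
    have h1 := wL_eq hy h0
    rwa [K.wL_inr, K.wL_inl, map_zero] at h1
  · rw [hh j, mul_zero]

theorem rl_ad (hD : Typ D) (hy : RP hp p v y) {h : D.Idx → KK p} (hh : K.InT p h) {a : LL l} (ha : RT hp a) :
    rl hp (ad D p y h) (ac hp v a) = rl hp h a := by
  obtain ⟨s, rfl⟩ := K.exists_idx hp ha
  obtain ⟨j, -, hj⟩ := K.exists_mid (A := mx y⁻¹) (B := mx y) (i := Sum.inr s) (j := Sum.inr s)
    (by rw [K.mx_inv_mul, Matrix.one_apply_eq]; exact one_ne_zero)
  have h1 := K.Tor.mt_Am hD y h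
  rw [K.Tor.Am_tor hh, K.Tor.Am_tor (inT hy hh)] at h1
  have h2 := congrFun (congrFun h1 j) (Sum.inr s)
  rw [Matrix.mul_diagonal, Matrix.diagonal_mul, mul_comm, wt_eq (hp := hp), wt_eq (hp := hp), wL_eq hy hj] at h2
  exact (mul_right_cancel₀ hj h2).symm

theorem rl_zero {x : D.Idx → KK p} (h : ∀ i, x (Sum.inl i) = 0) (a : LL l) : rl hp x a = 0 := by
  rw [K.rl_apply]
  exact Finset.sum_eq_zero fun i _ => by rw [h, mul_zero]

theorem sum_mem (hc : f * e = e * f) (hf : f ^ 3 = 1) {x : D.Idx → KK p} (hx : ad D p e x = x) :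
    x + ad D p f x + ad D p (f * f) x ∈ Fx p ({e, f} : Set (YY D p)) := by
  rintro _ (rfl | rfl)
  · rw [map_add, map_add, hx, ← ad_mul, ← ad_mul, ← hc, ← mul_assoc, ← hc, mul_assoc, ← hc, ← mul_assoc, ad_mul _ _ x,
      ad_mul _ _ x, hx]
  · rw [map_add, map_add, ← ad_mul, ← ad_mul, ← mul_assoc, ← pow_three', hf, ad_one]
    abel

/-- the roots of one factor `A₂` -/
def bs : Fin 6 → LL 6 := ![![1, 0, 0, 0, 0, 0], ![0, 0, 1, 0, 0, 0], ![1, 0, 1, 0, 0, 0], ![-1, 0, 0, 0, 0, 0],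
  ![0, 0, -1, 0, 0, 0], ![-1, 0, -1, 0, 0, 0]]

theorem tb : (∀ j, ∃ s : Fin chevE6.nroots, vec chevE6 6 s = bs j) ∧ (∀ j k, bs j = bs k → j = k) ∧
    (∀ j, psi (lv 6 [0, 0, 0, 1, 0, 0]) (bs j) = 0) ∧ ∀ V ∈ [V6, W6],
      (∀ j k, bs k ≠ mv V (bs j) ∧ bs k ≠ mv V (mv V (bs j))) ∧ mv V (mv V (mv V (bs 0))) = bs 0 ∧
      pairing (cartanOf chevE6 6) 2 (bs 0 + mv V (mv V (bs 0)) + mv V (bs 0)) = -1 := by decide +kernel

end D24

open D24

/-- **[D24]** -/
theorem boxD24 : BoxD24 := by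
  rintro D l M hp p _ hD r c V e f v hP ⟨rfl, rfl, hV, rfl⟩ S
  obtain rfl := (typ_l hp).2.1 rfl
  obtain ⟨t1, t2, t3, t4⟩ := tb
  choose s hs using t1
  obtain ⟨t5, t6, t7⟩ := t4 V (by simpa using hV)
  have hv := ac_eq S.mat
  have h2 : RP hp p (v * v) (f * f) := by simpa only [pow_two] using S.rp.pow 2
  have hv2 : ∀ x, ac hp (v * v) x = mv V (mv V x) := fun x => by rw [Al.ET.ac_mul, hv, hv]
  have hr : ∀ j, RT hp (bs j) := fun j => hs j ▸ K.rt_vec hp (s j)
  obtain ⟨ζ, -, hζ⟩ := S.chr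
  let Φ : (chevE6.Idx → KK p) →ₗ[KK p] (Option (Fin 6) → KK p) :=
    { toFun := fun x o => o.elim (rl hp x (bs 0)) fun j => x (Sum.inr (s j))
      map_add' := fun x y => funext fun o => by
        cases o
        exacts [K.rl_add hp x y _, rfl]
      map_smul' := fun a x => funext fun o => by
        cases o
        exacts [K.rl_smul hp a x _, rfl] }
  have key : ∀ o, ∃ x ∈ Fx p ({e, f} : Set (YY chevE6 p)), Φ x = Pi.single o 1 := by
    rintro (_ | j)
    · obtain ⟨h, hh, h3⟩ : ∃ h : chevE6.Idx → KK p, K.InT p h ∧ ∀ a, rl hp h a = -(pairing (cartanOf chevE6 6) 2 a : ℤ) :=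
        ⟨Pi.single (Sum.inl (Fin.cast hp.rank_eq.symm 2)) (-1), fun _ => Pi.single_eq_of_ne Sum.inr_ne_inl _, fun a => by
          rw [K.rl_apply, Finset.sum_eq_single (Fin.cast hp.rank_eq.symm 2) (fun i _ hi => by
            rw [Pi.single_eq_of_ne fun k => hi (Sum.inl.inj k), mul_zero]) fun k => absurd (Finset.mem_univ _) k,
            Pi.single_eq_same, mul_neg_one]
          rfl⟩
      refine ⟨_, sum_mem hP.comm hP.hf (K.ad_T_T hp S.mem hh), funext fun o => ?_⟩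
      cases o with
      | none =>
        have k1 := rl_ad hD S.rp hh (a := ac hp v (ac hp v (bs 0))) (((hr 0).act v).act v)
        have k2 := rl_ad hD h2 hh (a := ac hp v (bs 0)) ((hr 0).act v)
        rw [hv, hv, hv, t6] at k1
        rw [hv2, hv, t6] at k2
        show rl hp _ _ = _
        rw [K.rl_add, K.rl_add, k1, k2, ← map_add, ← map_add, h3, t7, Pi.single_eq_same]
        norm_num
      | some k =>
        show h _ + _ + _ = _
        rw [hh, inT S.rp hh, inT h2 hh, Pi.single_eq_of_ne (by simp), add_zero, add_zero]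
    · refine ⟨_, sum_mem hP.comm hP.hf (x := Pi.single (Sum.inr (s j)) 1) ?_, funext fun o => ?_⟩
      · rw [K.ad_eq, K.mx_T hp S.mem, Matrix.diagonal_mulVec_single, K.wL_inr, hs, hζ, t3, zpow_zero, mul_one]
      cases o with
      | none =>
        rw [Pi.single_eq_of_ne (by simp)]
        refine rl_zero (hp := hp) (fun i => ?_) _
        rw [Pi.add_apply, Pi.add_apply, Pi.single_eq_of_ne Sum.inl_ne_inr,
          single_zero S.rp (i := Sum.inl i) (j := Sum.inr (s j)) fun k => ((K.rt_vec hp (s j)).act v).ne_zero k.symm,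
          single_zero h2 (i := Sum.inl i) (j := Sum.inr (s j)) fun k => ((K.rt_vec hp (s j)).act (v * v)).ne_zero k.symm,
          add_zero, add_zero]
      | some k =>
        show (Pi.single (Sum.inr (s j)) 1 : chevE6.Idx → KK p) _ + _ + _ = _
        rw [single_zero S.rp (by rw [K.wL_inr, K.wL_inr, hs, hs, hv]; exact (t5 j k).1),
          single_zero h2 (by rw [K.wL_inr, K.wL_inr, hs, hs, hv2]; exact (t5 j k).2), add_zero, add_zero]
        by_cases h : k = j
        · rw [h, Pi.single_eq_same, Pi.single_eq_same]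
        · rw [Pi.single_eq_of_ne fun e => h (t2 _ _ (by rw [← hs, ← hs, Sum.inr.inj e])),
            Pi.single_eq_of_ne fun e => h (Option.some.inj e)]
  have h7 : (Fx p ({e, f} : Set (YY chevE6 p))).map Φ = ⊤ := by
    rw [eq_top_iff, ← (Pi.basisFun (KK p) (Option (Fin 6))).span_eq, Submodule.span_le]
    rintro _ ⟨o, rfl⟩
    rw [Pi.basisFun_apply]
    exact key o
  have h8 := Submodule.finrank_map_le Φ (Fx p ({e, f} : Set (YY chevE6 p)))
  rwa [h7, finrank_top, Module.finrank_fintype_fun_eq_card, Fintype.card_option, Fintype.card_fin] at h8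

end Cfsg.Agent.N2.Ex.CC
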