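import Cfsg.Agent.N2.Ex.CC.Defs
import Cfsg.Agent.N2.Ex.Al.ElA
import Cfsg.Agent.N2.Ex.Al.TbD

/-!
# N2 (S3519), `BoxCC`: the box `BoxD30` (helper87)
-/

set_option autoImplicit false
set_option linter.unusedSectionVars false
set_option maxRecDepth 100000

namespace Cfsg.Agent.N2.Ex.CC

open CoxeterSystem Cfsg Cfsg.Lie Cfsg.Lie.ChevalleyDatum
open Cfsg.Agent.ChevalleyStructure Cfsg.Agent.ChevalleyStructure.CoxeterGeom Cfsg.Agent.Tits.Roots Cfsg.Agent.Nodes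
  Cfsg.Agent.Nodes.BNOf Cfsg.Agent.Nodes.RGDChev Cfsg.Agent.Nodes.Coroot
open Cfsg.Agent.KFacts.RgdChevCoord Cfsg.Agent.BpExc.Fr Cfsg.Agent.BpExc.LangFr
open Cfsg.Agent.H469.Exc Cfsg.Agent.H316.U6 Cfsg.Agent.H129.TorusChar Cfsg.Agent.DS.Ex Cfsg.Agent.DS.Nt
open Cfsg.Agent.DS.Ex.Tor (RT FR MS)
open Cfsg.Agent.N2.Ex.Al (LL cp ac GW Ch)
open Cfsg.Agent.H931.KC (psi)
open Cfsg.Agent.N2.Ex.K (mx wL rl)
open Cfsg.Agent.N2.Ex.Al.Ck (tbE6 gsE6)

namespace D30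

/-- the linear map with the rows `V` -/
def mv (l : ℕ) (V : List (List ℤ)) (x : LL l) : LL l := ∑ i, x i • lv l (V.getD i [])

/-- representatives of the free orbits -/
def JN : Finset ℕ := {0, 1, 6, 7, 11, 12, 16, 17, 21, 22, 25, 26, 28, 29, 31, 32, 33, 34, 35, 37, 43, 48}

/-- the fixed roots -/
def JF : Finset ℕ := {3, 18, 23, 39, 54, 59}

theorem tab : ∀ V ∈ [V6, W6], (∀ r < 72, ∃ j ∈ JN ∪ JF, ∃ i < 3, tbE6.vec 6 r = (mv 6 V)^[i] (tbE6.vec 6 j)) ∧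
    ∀ j ∈ JF, mv 6 V (tbE6.vec 6 j) = tbE6.vec 6 j := by decide +kernel

theorem tab' : (∀ j ∈ JN ∪ JF, j < 72) ∧ JN.card = 22 ∧
    ∀ j ∈ JF, (3 : ℤ) ∣ psi (lv 6 [1, 0, 0, 0, 0, 1]) (tbE6.vec 6 j) := by decide +kernel

variable {D : ChevalleyDatum} {l : ℕ} {M : CoxeterMatrix (Fin l)} {hp : IsType D l M} {p : ℕ} [Fact p.Prime]
  {v : M.Group} {f : YY D p}

theorem ac_eq {V : List (List ℤ)} (h : ∀ i : Fin l, ac hp v (sr i) = lv l (V.getD i [])) (x : LL l) :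
    ac hp v x = mv l V x := by
  conv_lhs => rw [← Finset.univ_sum_single x, map_sum]
  refine Finset.sum_congr rfl fun i _ => ?_
  rw [← h, ← map_zsmul, sr, ← Pi.single_smul, smul_eq_mul, mul_one]

theorem ac_pow {V : List (List ℤ)} (h : ∀ i : Fin l, ac hp v (sr i) = lv l (V.getD i [])) (i : ℕ) (x : LL l) :
    ac hp (v ^ i) x = (mv l V)^[i] x := by
  induction i with
  | zero => rw [pow_zero, Al.Ck.ac_one, Function.iterate_zero_apply]
  | succ i ih => rw [pow_succ', Al.Ck.ac_mul, ih, ac_eq h, Function.iterate_succ_apply']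

theorem inT_ad (hf : RP hp p v f) {h : D.Idx → KK p} (hh : K.InT p h) : K.InT p (ad D p f h) := fun s =>
  Finset.sum_eq_zero (s := Finset.univ) (f := fun j => mx f (Sum.inr s) j * h j) fun j _ => by
    rcases j with j | j
    · refine mul_eq_zero_of_left (by_contra fun h0 => (K.rt_vec hp s).ne_zero ?_) _
      exact (Al.Av.wL_eq hf h0).trans (map_zero _)
    · exact mul_eq_zero_of_right _ (hh j)

/-- a fixed root which occurs in a fixed vector is centralised -/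
theorem cx (hD : Typ D) (hf : RP hp p v f) {b : LL l} (hb : ac hp v b = b) (h : Al.Av.Bad l f b) : CX p l f b := by
  obtain ⟨x, a1, s, rfl, a2⟩ := h
  have b0 := K.rt_vec hp s
  have b1 : mx f (Sum.inr s) (Sum.inr s) = 1 := by
    have := Al.Av.coord hf hb.symm x
    rw [a1] at this
    exact (mul_left_eq_self₀.1 this.symm).resolve_right a2
  intro y hy
  have b2 := (hf.fr.map _ b0 y).2 hy
  rw [show repAut _ _ v (vec D l s) = vec D l s from hb] at b2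
  obtain ⟨u, rfl⟩ := (K.mem_XX hp b0).1 hy
  obtain ⟨u', e⟩ := (K.mem_XX hp b0).1 b2
  replace e : xc hp (vec D l s) u' * f = f * xc hp (vec D l s) u := by rw [e, MulAut.conj_apply, inv_mul_cancel_right]
  obtain ⟨i, hi⟩ := K.Tor.car_one hD s
  have c1 : K.InT p (Pi.single (Sum.inl i) 1 : D.Idx → KK p) := fun t => Pi.single_eq_of_ne Sum.inr_ne_inl _
  have c2 : rl hp (Pi.single (Sum.inl i) 1 : D.Idx → KK p) (vec D l s) ≠ 0 := by
    rw [← K.wL_inr, ← Al.Av.wt_eq, K.Tor.wt, Sum.elim_inr, Finset.sum_eq_single i (fun j _ hj => by simp [hj]) (by simp)]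
    rcases hi with k | k <;> simp [k]
  generalize (Pi.single (Sum.inl i) 1 : D.Idx → KK p) = h at c1 c2
  have c3 := inT_ad hf c1
  have c4 := K.Tor.mt_Am hD f h
  rw [K.Tor.Am_tor c1, K.Tor.Am_tor c3] at c4
  have c5 := congrFun (congrFun c4 (Sum.inr s)) (Sum.inr s)
  rw [Matrix.mul_diagonal, Matrix.diagonal_mul, Al.Av.wt_eq (hp := hp), Al.Av.wt_eq (hp := hp), K.wL_inr,
    show K.Tor.mt f _ _ = 1 from b1, one_mul, mul_one] at c5
  have c6 := congrArg (fun y => ad D p y h (Sum.inr s)) e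
  simp only [ad_mul] at c6
  rw [K.ad_xc_T hp s u' c3, Al.Av.coord hf hb.symm, K.ad_xc_T hp s u c1, b1, one_mul, Pi.sub_apply, Pi.sub_apply, c1 s,
    c3 s, Pi.single_eq_same, Pi.single_eq_same, ← c5] at c6
  rw [← e, mul_left_cancel₀ c2 (sub_right_injective c6)]

end D30

/-- **[D30]** -/
theorem boxD30 : BoxD30 := by
  classical
  intro D l M hp p _ hD r k c V e f v _ hR S hd
  obtain ⟨rfl, rfl, hV, rfl, -⟩ : D = chevE6 ∧ r = 3 ∧ (V = V6 ∨ V = W6) ∧ c = [1, 0, 0, 0, 0, 1] ∧ 30 = 30 ∧ k = 0 :=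
    (hR.resolve_left fun h => absurd h.2.2.2.2.1 (by decide)).resolve_left fun h => absurd h.2.2.2.2.1 (by decide)
  obtain rfl := (typ_l hp).2.1 rfl
  obtain ⟨a1, a2⟩ := D30.tab V (by simpa using hV)
  obtain ⟨a3, a4, a5⟩ := D30.tab'
  have G := (gsE6 hp).toGt
  by_contra hc
  have b1 := Al.Av.dd_le S.rp (J := (D30.JN ∪ D30.JF).image (tbE6.vec 6)) (fun b hb => by
    obtain ⟨j, hj, rfl⟩ := Finset.mem_image.1 hb
    exact G.root j (a3 j hj)) (fun x hx => by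
    obtain ⟨r, hr, rfl⟩ := G.surj x hx
    obtain ⟨j, hj, i, -, k⟩ := a1 r hr
    exact ⟨_, Finset.mem_image_of_mem _ hj, i, k.trans (D30.ac_pow S.mat i _).symm⟩) (Finset.univ.image Sum.inl)
    fun x _ hx h0 => funext (Sum.rec (fun j => h0 _ (Finset.mem_image_of_mem _ (Finset.mem_univ j))) hx)
  have b2 : ((D30.JN ∪ D30.JF).image (tbE6.vec 6)).filter (Al.Av.Bad 6 f) ⊆ D30.JN.image (tbE6.vec 6) := fun b hb => by
    obtain ⟨hb, k⟩ := Finset.mem_filter.1 hb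
    obtain ⟨j, hj, rfl⟩ := Finset.mem_image.1 hb
    refine Finset.mem_image_of_mem _ ((Finset.mem_union.1 hj).resolve_right fun h => ?_)
    have b3 := (D30.ac_eq S.mat _).trans (a2 j h)
    exact hc ⟨_, ⟨G.root j (a3 j hj), a5 j h⟩, b3, D30.cx hD S.rp b3 k⟩
  have b3 := (Finset.card_le_card b2).trans Finset.card_image_le
  have b4 : (Finset.univ.image (Sum.inl : _ → chevE6.Idx)).card ≤ 6 :=
    Finset.card_image_le.trans (by rw [Finset.card_univ, Fintype.card_fin, hp.rank_eq])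
  omega

end Cfsg.Agent.N2.Ex.CC
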