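import Cfsg.Agent.N2.Ex.CC.Defs
import Cfsg.Agent.N2.Ex.Al.ElT

/-!
# N2 (S3519), `E₆`, `E₇`, non-toral pairs: the element (helper57)

* `El.exists_m` : a prime divisor `m ≥ 5` of `q² + q + 1`;
* `El.WC` : the elements of the Weyl group with a representative in `Cc Z`;
* `El.fin` : from the character to the element; `boxEl`.
-/

set_option autoImplicit false
set_option linter.unusedSectionVars false
set_option maxHeartbeats 400000

namespace Cfsg.Agent.N2.Ex.CC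

open CoxeterSystem Cfsg Cfsg.Lie Cfsg.Lie.ChevalleyDatum
open Cfsg.Agent.ChevalleyStructure Cfsg.Agent.ChevalleyStructure.CoxeterGeom Cfsg.Agent.Tits.Roots Cfsg.Agent.Nodes
  Cfsg.Agent.Nodes.BNOf Cfsg.Agent.Nodes.RGDChev Cfsg.Agent.Nodes.Coroot
open Cfsg.Agent.KFacts.RgdChevCoord Cfsg.Agent.BpExc.Fr Cfsg.Agent.BpExc.LangFr
open Cfsg.Agent.H469.Exc Cfsg.Agent.H316.U6 Cfsg.Agent.H129.TorusChar Cfsg.Agent.DS.Ex Cfsg.Agent.DS.Nt
open Cfsg.Agent.DS.Ex.Tor (RT FR MS)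
open Cfsg.Agent.N2.Ex.Al (LL cp ac GW Ch)
open Cfsg.Agent.H931.KC (psi)

namespace El

theorem exists_m {q : ℕ} (hq : 2 ≤ q) : ∃ m, m.Prime ∧ 5 ≤ m ∧ m ∣ q ^ 2 + q + 1 := by
  obtain ⟨x, h0, h1⟩ : ∃ x, x ≠ 0 ∧ 3 * x + 1 ∣ q ^ 2 + q + 1 := by
    obtain ⟨k, rfl | rfl | rfl⟩ : ∃ k, q = 3 * k ∨ q = 3 * k + 1 ∨ q = 3 * k + 2 := ⟨q / 3, by omega⟩
    exacts [⟨3 * k ^ 2 + k, by omega, 1, by ring⟩, ⟨k ^ 2 + k, by omega, 3, by ring⟩,
      ⟨3 * k ^ 2 + 5 * k + 2, by omega, 1, by ring⟩]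
  obtain ⟨r, hr, h2⟩ := Nat.exists_prime_and_dvd (n := 3 * x + 1) (by omega)
  refine ⟨r, hr, hr.five_le_of_ne_two_of_ne_three ?_ (by rintro rfl; omega), h2.trans h1⟩
  rintro rfl
  have h3 := h2.trans h1
  have h4 := (Nat.even_mul_succ_self q).two_dvd
  rw [show q ^ 2 + q + 1 = q * (q + 1) + 1 by ring] at h3
  omega

variable {D : ChevalleyDatum} {l : ℕ} {M : CoxeterMatrix (Fin l)} {hp : IsType D l M} {p : ℕ} [Fact p.Prime]

variable (hp p) in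
/-- the elements of the Weyl group with a representative in `Cc Z` -/
def WC (Z : Set (YY D p)) : Subgroup M.Group where
  carrier := {w | ∃ n ∈ Cc p Z, RP hp p w n}
  one_mem' := ⟨1, one_mem _, RP.of_mem (one_mem _)⟩
  mul_mem' := fun ⟨a, h1, h2⟩ ⟨b, h3, h4⟩ => ⟨a * b, mul_mem h1 h3, h2.mul h4⟩
  inv_mem' := fun ⟨a, h1, h2⟩ => ⟨a⁻¹, inv_mem h1, h2.inv⟩

theorem g_comm {σ : MulAut (YY D p)} {g : LL l ≃+ LL l} (F : FR hp p σ g) {f : YY D p} {v : M.Group} (hf : σ f = f)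
    (h : RP hp p v f) (x : LL l) : g (ac hp v x) = ac hp v (g x) := by
  have h1 : σ * MulAut.conj f = MulAut.conj f * σ := by
    ext1 y
    simp only [MulAut.mul_apply, MulAut.conj_apply, map_mul, map_inv, hf]
  exact DFunLike.congr_fun (Tor.fr_unique (hp := hp) (h1 ▸ F.mul h.fr) (h.fr.mul F)) x

/-- the roots killed by a product of elements of coprime orders -/
theorem dd_le {r m k : ℕ} {c : List ℤ} {V : List (List ℤ)} {e f t : YY D p} {v : M.Group} (S : St hp p r c V e f v)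
    (hr : r.Coprime m) {ζ : KK p} (hζ : IsPrimitiveRoot ζ m) {φ : LL l →+ ℤ} (ht : t ∈ TT D (KK p))
    (h : ∀ x, cX hp t x = ζ ^ φ x) (hk : {a ∈ Pc hp r c | (m : ℤ) ∣ φ a}.ncard ≤ k) : dd p (e * t) ≤ l + k := by
  have := finW hp
  obtain ⟨ξ, h1, h2⟩ := S.chr
  rw [← SB.Exc.CI.ncard_Ps (hp := hp) (mul_mem S.mem ht)]
  refine Nat.add_le_add_left (le_trans (Set.ncard_le_ncard (fun a ha => ?_)
    ((RGD.finite_roots (cs := M.toCoxeterSystem) (h := hp.isCartan)).subset fun a ha => ha.1.1)) hk) l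
  obtain ⟨h3, h4⟩ := (mem_Ps (Set.singleton_subset_iff.2 (mul_mem S.mem ht))).1 ha
  have h5 := h4 _ rfl
  rw [cX_mul hp S.mem ht, h, h2] at h5
  have h6 : (r : ℤ) ∣ psi (lv l c) a := by
    have h7 := congrArg (· ^ (m : ℤ)) h5
    simp only [mul_zpow, one_zpow, ← zpow_mul] at h7
    rw [(hζ.zpow_eq_one_iff_dvd _).2 (dvd_mul_left _ _), mul_one, h1.zpow_eq_one_iff_dvd] at h7
    exact (Nat.isCoprime_iff_coprime.2 hr).dvd_of_dvd_mul_right h7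
  rw [(h1.zpow_eq_one_iff_dvd _).2 h6, one_mul, hζ.zpow_eq_one_iff_dvd] at h5
  exact ⟨⟨h3, h6⟩, h5⟩

/-- **from the character to the element** -/
theorem fin (hL : BoxLang) {n r m k : ℕ} {σ : MulAut (YY D p)} {g : LL l ≃+ LL l} {c : List ℤ} {V : List (List ℤ)}
    {e f : YY D p} {v w : M.Group} (hn : 0 < n) (hσ : IsFrob p n σ) (F : FR hp p σ g) (he : σ e = e) (hf : σ f = f)
    (P : P2 p r e f) (S : St hp p r c V e f v) (hm : m.Prime) (h5 : 5 ≤ m) (hmp : m ≠ p) (hw : w ∈ WC hp p {e, f})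
    {φ : LL l →+ ℤ} (hφ : Ch (p ^ n) (g.trans (ac hp w)) m φ) (hv : ∀ x, φ (ac hp v x) = φ x)
    (hk : {a ∈ Pc hp r c | (m : ℤ) ∣ φ a}.ncard ≤ k) : Tg p l σ e f k := by
  obtain ⟨y, h1, h2⟩ := hw
  have hN : m.Coprime p := (Nat.coprime_primes hm Fact.out).2 hmp
  have : NeZero (m : KK p) := ⟨Cb.cast_ne hN⟩
  obtain ⟨ζ, hζ⟩ := HasEnoughRootsOfUnity.exists_primitiveRoot (KK p) m
  obtain ⟨t, ht, h3, h4⟩ := Al.ET.exists_ch P.tp (hσ.conj_mul y) (h2.fr.mul F) hm.ne_zero hζ hφ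
  have cm : ∀ z ∈ Cc p ({e, f} : Set (YY D p)), e * z = z * e ∧ f * z = z * f := fun z hz =>
    ⟨Subgroup.mem_centralizer_iff.1 (Cc_le _ hz) e (by simp), Subgroup.mem_centralizer_iff.1 (Cc_le _ hz) f (by simp)⟩
  obtain ⟨z, h6, h7⟩ := hL D l M hp p P.tp n (MulAut.conj y * σ) {e, f} hn (hσ.conj_mul y) (by
    rintro _ (rfl | rfl)
    · rw [MulAut.mul_apply, he, MulAut.conj_apply, ← (cm y h1).1, mul_inv_cancel_right]
    · rw [MulAut.mul_apply, hf, MulAut.conj_apply, ← (cm y h1).2, mul_inv_cancel_right]) y⁻¹ (inv_mem h1)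
  rw [MulAut.mul_apply, MulAut.conj_apply] at h3 h7
  have h8 : σ z = y⁻¹ * z := by
    calc σ z = y⁻¹ * z * (z⁻¹ * (y * σ z * y⁻¹)) * y := by group
      _ = y⁻¹ * z := by rw [← h7]; group
  have k : ∀ x : YY D p, x * z = z * x → t * x = x * t → z⁻¹ * t * z * x = x * (z⁻¹ * t * z) := fun x a b => by
    calc z⁻¹ * t * z * x = z⁻¹ * (t * x) * z := by rw [mul_assoc, ← a]; group
      _ = z⁻¹ * (x * z) * z⁻¹ * t * z := by rw [b]; group
      _ = x * (z⁻¹ * t * z) := by rw [a]; group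
  have hr : r.Coprime m := (Nat.coprime_primes P.prime hm).2 (by rcases P.typ with h | h <;> omega)
  refine ⟨z⁻¹ * t * z, m, ?_, k e (cm z h6).1 (BpExc.TorChev.TT_comm hp _ ht _ S.mem),
    k f (cm z h6).2 (S.rp.comm ht fun x => by rw [h4, h4, ← hv x, repAut_apply]).symm, hm, h5, hmp, ?_, ?_⟩
  · rw [map_mul, map_mul, map_inv, h8]
    calc (y⁻¹ * z)⁻¹ * σ t * (y⁻¹ * z) = z⁻¹ * (y * σ t * y⁻¹) * z := by group
      _ = _ := by rw [h3]
  · have h9 : t ^ m = 1 := pow_eq_one_of_cX (hp := hp) ht fun x => by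
      rw [h4, ← zpow_natCast, ← zpow_mul, mul_comm, zpow_mul, zpow_natCast, hζ.pow_eq_one, one_zpow]
    have h10 := conj_pow (a := z⁻¹) (b := t) (i := m)
    rwa [inv_inv, h9, mul_one, inv_mul_cancel] at h10
  · have h9 : e * (z⁻¹ * t * z) = z⁻¹ * (e * t) * z⁻¹⁻¹ := by
      calc e * (z⁻¹ * t * z) = z⁻¹ * (z * e) * z⁻¹ * t * z := by group
        _ = _ := by rw [← (cm z h6).1]; group
    rw [h9, dd_conj]
    exact dd_le S hr hζ ht h4 hk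

end El

/-- **[El]** -/
theorem boxEl : BoxEl := by
  intro hL hC hT h63 h79 h30 D l M hp p _ hD n r d k σ g c V e f v hn hσ F hg he hf P R S hb
  have hd : BoxLt d := by
    rcases R with h | h | h
    exacts [h.2.2.2.2.1 ▸ h63, h.2.2.2.2.1 ▸ h79, h.2.2.2.2.1 ▸ h30]
  have hq : 2 ≤ p ^ n := (Fact.out : p.Prime).two_le.trans (Nat.le_self_pow hn.ne' p)
  obtain ⟨m, hm, h5, h1⟩ := El.exists_m hq
  have hmp : m ≠ p := by
    rintro rfl
    have h2 : m ∣ m ^ n := dvd_pow_self m hn.ne'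
    exact hm.one_lt.ne' (Nat.dvd_one.1 ((Nat.dvd_add_right (dvd_add (h2.pow two_ne_zero) h2)).1 h1))
  have T := fun a (ha : a ∈ Pc hp r c) => hT hC D l M hp p hD r e f v a P S.mem S.rp (S.ps ▸ ha)
  obtain ⟨w, hw, φ, h2, h3, h4⟩ := hd D l M hp r k c V v (El.WC hp p {e, f}) g (p ^ n) m R S.mat
    (fun a ha ho => by
      obtain ⟨y, a1, w, a2, a3⟩ := (T a ha).1 ho
      exact ⟨w, ⟨y, a1, a2⟩, a3⟩)
    (fun h => by
      obtain ⟨b, b1, b2, b3, b4⟩ := hb h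
      obtain ⟨y, a1, w, a2, a3⟩ := (T b b1).2 b3 b4
      exact ⟨b, b1, b2, w, ⟨y, a1, a2⟩, a3⟩)
    hg (El.g_comm F hf S.rp)
    (S.ps ▸ Cb.g_mem_Ps hσ F (Set.singleton_subset_iff.2 S.mem) (by rintro _ rfl; exact he)) hm h5 h1
  exact El.fin hL hn hσ F he hf P S hm h5 hmp hw h2 h3 h4

end Cfsg.Agent.N2.Ex.CC
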