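import Cfsg.Agent.N2.Ex.CC.Defs
import Cfsg.Agent.SB.Exc.NT.Ind

/-!
# N2 (S3519), `E₆`, `E₇`, the groups that are not toral: the finite group, `boxFin : BoxFin` (helper12)
-/

set_option autoImplicit false
set_option linter.unusedSectionVars false
set_option maxHeartbeats 400000

namespace Cfsg.Agent.N2.Ex.CC

open CoxeterSystem Cfsg Cfsg.Lie Cfsg.Lie.ChevalleyDatum
open Cfsg.Agent.ChevalleyStructure Cfsg.Agent.ChevalleyStructure.CoxeterGeom Cfsg.Agent.Tits.Roots Cfsg.Agent.Nodes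
  Cfsg.Agent.Nodes.BNOf Cfsg.Agent.Nodes.RGDChev
open Cfsg.Agent.KFacts.RgdChevCoord Cfsg.Agent.BpExc.Fr Cfsg.Agent.BpExc.LangFr
open Cfsg.Agent.H469.Exc Cfsg.Agent.H316.U6 Cfsg.Agent.H129.TorusChar Cfsg.Agent.DS.Ex Cfsg.Agent.DS.Nt
open Cfsg.Agent.H931.KC (nmk nmk_E6 nmk_E7)
open Cfsg.Agent.SB.Exc (XF nP dM ordU degs)

namespace Fi

section Grp

variable {X : Type*} [Group X]

theorem card_le_orb [Finite X] (A : Subgroup X) (x : X) (S : Set X) (h : ∀ a ∈ A, a * x * a⁻¹ ∈ S) :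
    Nat.card A ≤ S.ncard * Nat.card (Subgroup.centralizer ({x} : Set X)) := by
  classical
  let φ : A → S := fun a => ⟨a * x * a⁻¹, h a a.2⟩
  have h1 : ∀ a : A, ((Function.invFun φ (φ a) : A) : X)⁻¹ * a ∈ Subgroup.centralizer ({x} : Set X) := fun a => by
    have e : ((Function.invFun φ (φ a) : A) : X) * x * ((Function.invFun φ (φ a) : A) : X)⁻¹ = a * x * (a : X)⁻¹ :=
      congrArg Subtype.val (Function.invFun_eq (f := φ) ⟨a, rfl⟩)
    generalize ((Function.invFun φ (φ a) : A) : X) = g at e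
    rw [Subgroup.mem_centralizer_singleton_iff]
    calc g⁻¹ * a * x = g⁻¹ * (a * x * (a : X)⁻¹) * a := by group
      _ = _ := by rw [← e]; group
  rw [← Nat.card_coe_set_eq, ← Nat.card_prod]
  refine Nat.card_le_card_of_injective (fun a => (φ a, ⟨_, h1 a⟩)) fun a b e => ?_
  obtain ⟨e1, e2⟩ := Prod.mk.inj e
  have e3 := Subtype.mk.inj e2
  rw [e1] at e3
  exact Subtype.ext (mul_left_cancel e3)

variable {E : Subgroup X} [Finite E] {r : ℕ} (hr : r.Prime) (hc : Nat.card E = r ^ 2) {e f : X}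
include hr hc

theorem exists_out (h1 : e ≠ 1) (h2 : e ^ r = 1) : ∃ f ∈ E, f ∉ Subgroup.zpowers e := by
  have := Fact.mk hr
  by_contra h3
  have h4 := Subgroup.card_dvd_of_le (show E ≤ Subgroup.zpowers e from fun f hf => not_not.1 fun k => h3 ⟨f, hf, k⟩)
  rw [hc, Nat.card_zpowers, orderOf_eq_prime h2 h1] at h4
  have h5 := Nat.le_of_dvd hr.pos h4
  have h6 := hr.one_lt
  nlinarith

theorem exists_ne : ∃ e ∈ E, e ≠ 1 := by
  by_contra h
  have h1 : E = ⊥ := eq_bot_iff.2 fun e he => not_not.1 fun k => h ⟨e, he, k⟩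
  rw [h1, Subgroup.card_bot] at hc
  have h6 := hr.one_lt
  nlinarith

theorem le_of_two (he : e ∈ E) (h1 : e ≠ 1) (h2 : e ^ r = 1) (hf : f ∈ E) (h3 : f ∉ Subgroup.zpowers e) {K : Subgroup X}
    (k1 : e ∈ K) (k2 : f ∈ K) : E ≤ K := by
  have := Fact.mk hr
  have : Finite ↥(E ⊓ K) := Finite.of_injective _ (Subgroup.inclusion_injective inf_le_left)
  obtain ⟨j, h4, h5⟩ := (Nat.dvd_prime_pow hr).1 (hc ▸ Subgroup.card_dvd_of_le (inf_le_left : E ⊓ K ≤ E))
  have h6 : Subgroup.zpowers e ≤ E ⊓ K := Subgroup.zpowers_le.2 ⟨he, k1⟩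
  have h7 : ¬ j ≤ 1 := fun k => h3 ((Subgroup.eq_of_le_of_card_ge h6 (by
    rw [h5, Nat.card_zpowers, orderOf_eq_prime h2 h1]
    exact (Nat.pow_le_pow_right hr.pos k).trans (pow_one r).le)).ge ⟨hf, k2⟩)
  exact (Subgroup.eq_of_le_of_card_ge (inf_le_left : E ⊓ K ≤ E) (by rw [h5, hc, show j = 2 by omega])).ge.trans inf_le_right

end Grp

theorem num {l K a c q₀ q n k d : ℕ} (N : ℕ) (h0 : 0 < q₀) (h : q₀ ≤ q) (ha : a = 3 * k + d) (hc : c = 4 * l)
    (hK : K = dM l * N ^ 4 * n) (hd : a + c ≤ nP l + (degs l).sum) (h1 : K * (q₀ ^ a * (q₀ + 1) ^ c) ≤ ordU l q₀) :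
    dM l * ((N * (q ^ k * (q + 1) ^ l)) ^ 3 * (n * (N * (q ^ d * (q + 1) ^ l)))) ≤ ordU l q := by
  refine le_of_eq_of_le ?_ (SB.Exc.NT.scale h0 h hd h1)
  rw [ha, hc, hK]
  ring

variable {D : ChevalleyDatum} {l : ℕ} {M : CoxeterMatrix (Fin l)} {hp : IsType D l M} {p : ℕ} [Fact p.Prime] {r : ℕ}

theorem not_tp {E : Subgroup (YY D p)} (h : EL p r E) (hc : Nat.card E = r ^ 2) (hT : ¬ Toral p E) {e f : YY D p}
    (he : e ∈ E) (h1 : e ≠ 1) (hf : f ∈ E) (h3 : f ∉ Subgroup.zpowers e) : ¬ Tp p e f := fun ⟨g, k1, k2⟩ =>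
  have := h.fin
  hT ⟨g, le_of_two h.prime hc he h1 (h.pow e he) hf h3 (K := (TT D (KK p)).comap (MulAut.conj g).toMonoidHom) k1 k2⟩

/-- the stabiliser of a vector -/
def Sv (v : D.Idx → KK p) : Subgroup (YY D p) where
  carrier := {y | ad D p y v = v}
  one_mem' := ad_one v
  mul_mem' := fun {a b} ha hb => by
    show ad D p (a * b) v = v
    rw [ad_mul, hb, ha]
  inv_mem' := fun {a} ha => by
    show ad D p a⁻¹ v = v
    have h1 := ad_mul a⁻¹ a v
    rw [inv_mul_cancel, ad_one, ha] at h1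
    exact h1.symm

variable {q : ℕ} {G : Type} [Group G] [Finite G] {T H R : Subgroup G}

/-- the criterion -/
theorem gd_tg (F : XF hp p q T) (S : DS.Setup T H) (hRT : R ≤ T) (hH : H ≤ Subgroup.normalizer (R : Set G))
    (hE : EL p r (im F.L R)) (hc : Nat.card R = r ^ 2) {e f : YY D p} (he : e ∈ im F.L R) (h1 : e ≠ 1) (hf : f ∈ im F.L R)
    (h3 : f ∉ Subgroup.zpowers e) {k d : ℕ} (hT : Tg p l F.L.σ e f k) (hd : dd p e ≤ l + d)
    (h : dM l * ((nmk D l * (q ^ k * (q + 1) ^ l)) ^ 3 * ((r ^ 2 - 1) * (nmk D l * (q ^ d * (q + 1) ^ l)))) ≤ ordU l q) :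
    Gd T H := by
  obtain ⟨s, m, a1, a2, a3, a4, a5, a6, a7, a8⟩ := hT
  have := hE.fin
  have := S.normal
  obtain ⟨x, hx, rfl⟩ := he
  obtain ⟨t, rfl⟩ : s ∈ F.L.ι.range := mem_of_pow_coprime (a7 ▸ one_mem _) (F.L.pow_dd s a1) (by
    refine a4.coprime_iff_not_dvd.2 fun k => ?_
    rcases F.L.hdd with e | ⟨-, e⟩ | ⟨-, e⟩ <;>
    · have := Nat.le_of_dvd (by omega) k
      omega)
  have b1 : T ⊓ Subgroup.centralizer (R : Set G) ≤ H := le_of_inv S inf_le_left (fun e => h1 (F.L.cent _ fun y => by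
      rw [← map_mul, ← map_mul]
      exact congrArg _ (Subtype.ext (Subgroup.mem_centralizer_iff.1 (e.ge y.2).2 x hx))))
    fun a ha y hy => ⟨S.normal.conj_mem y hy.1 a, Subgroup.mem_centralizer_iff.2 fun z hz => by
      have h4 := Subgroup.mem_centralizer_iff.1 hy.2 _ ((Subgroup.mem_normalizer_iff.1 (hH (inv_mem ha)) z).1 hz)
      calc z * (a * y * a⁻¹) = a * (a⁻¹ * z * a⁻¹⁻¹ * y) * a⁻¹ := by group
        _ = _ := by rw [h4]; group⟩
  have b2 : ∀ y : T, (∀ z ∈ im F.L R, z * F.L.ι y = F.L.ι y * z) → (y : G) ∈ H := fun y hy =>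
    b1 ⟨y.2, Subgroup.mem_centralizer_iff.2 fun z hz => by
      have h4 := hy (F.L.ι ⟨z, hRT hz⟩) (ι_mem_im.2 hz)
      rw [← map_mul, ← map_mul] at h4
      exact congrArg Subtype.val (F.L.inj h4)⟩
  have b3 : (t : G) ∈ H := b2 t fun z hz => Subgroup.mem_centralizer_singleton_iff.1
    (le_of_two hE.prime ((card_im hRT).trans hc) ⟨x, hx, rfl⟩ h1 (hE.pow _ ⟨x, hx, rfl⟩) hf h3
      (K := Subgroup.centralizer {F.L.ι t}) (Subgroup.mem_centralizer_singleton_iff.2 a2.symm)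
      (Subgroup.mem_centralizer_singleton_iff.2 a3.symm) hz)
  have b4 : (x : G) ∈ H := b2 x fun z hz => hE.comm z hz _ ⟨x, hx, rfl⟩
  have b5 : x ^ r = 1 := F.L.inj (by rw [map_pow, map_one, hE.pow _ ⟨x, hx, rfl⟩])
  have b6 : t ^ m = 1 := F.L.inj (by rw [map_pow, map_one, a7])
  have b7 : Commute x t := F.L.inj (by rw [map_mul, map_mul, a2])
  have b8 : r.Coprime p := (Nat.coprime_primes hE.prime Fact.out).2 hE.ne
  have b9 : Nat.card ↥(H ⊓ T) ≤ (r ^ 2 - 1) * cn x := by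
    have h4 := card_le_orb (H.subgroupOf T) x ((R.subgroupOf T : Set T) \ {1}) fun a ha =>
      ⟨(Subgroup.mem_normalizer_iff.1 (hH ha) x).1 hx, fun e => h1 (by rw [conj_eq_one_iff.1 e, map_one])⟩
    rwa [card_A, Set.ncard_sdiff_singleton_of_mem (one_mem _), ← Nat.card_coe_set_eq,
      show Nat.card ↥(R.subgroupOf T : Set T) = r ^ 2 from
        (Nat.card_congr (Subgroup.subgroupOfEquivOfLe hRT).toEquiv).trans hc] at h4
  refine gd_of_dd F (a := x * t) (mul_mem b4 b3) ?_ (by rwa [map_mul]) (b9.trans (Nat.mul_le_mul_left _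
    (Cb.cn_le' F.m (b8.coprime_dvd_left (orderOf_dvd_of_pow_eq_one b5)) (F.hι ▸ hd)))) h
  refine (Nat.Coprime.mul_left b8 ((Nat.coprime_primes a4 Fact.out).2 a6)).coprime_dvd_left (orderOf_dvd_of_pow_eq_one ?_)
  rw [b7.mul_pow, pow_mul, b5, one_pow, one_mul, mul_comm, pow_mul, b6, one_pow]

theorem fb (F : XF hp p q T) : Fb hp p F.L.e F.L.σ :=
  ⟨F.L.he, F.L.frob, 1, F.m.g, by
    rw [map_one, one_mul, F.hσ]
    exact F.m.fr, F.gW⟩

theorem le_q (F : XF hp p q T) : p ≤ q := F.m.hq ▸ Nat.le_self_pow F.m.he.ne' p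

end Fi

open Fi in
/-- **the finite group** -/
theorem boxFin : BoxFin := by
  intro hY _ _ D l M hp p _ tw f G _ _ T H F C R r hRT hH c
  have hr : r.Prime := c.typ.elim (fun h => h.2 ▸ Nat.prime_three) fun h => h.2 ▸ Nat.prime_two
  have hrp : r ≠ p := by
    rintro rfl
    have h1 := c.card
    rw [C.nt.noP R hRT (fun x => ⟨1, Subtype.ext (by rw [pow_one]; exact c.pow x x.2)⟩) hH, Subgroup.card_bot] at h1
    have h2 := hr.one_lt
    nlinarith
  have hE : EL p r (im F.L R) := ⟨hr, hrp, finite_im _ _, by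
    rintro _ ⟨x, hx, rfl⟩ _ ⟨y, hy, rfl⟩
    rw [← map_mul, ← map_mul, show x * y = y * x from Subtype.ext (c.comm x hx y hy)], by
    rintro _ ⟨x, hx, rfl⟩
    rw [← map_pow, show x ^ r = 1 from Subtype.ext (c.pow x hx), map_one]⟩
  have hc := (card_im (L := F.L) hRT).trans c.card
  have := hE.fin
  have hP : ∀ e ∈ im F.L R, ∀ f ∈ im F.L R, P2 p r e f := fun e he f hf =>
    ⟨c.typ, hrp, hE.pow e he, hE.pow f hf, hE.comm f hf e he⟩
  have hσ : ∀ e ∈ im F.L R, F.L.σ e = e := by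
    rintro _ ⟨x, -, rfl⟩
    exact F.L.fix x
  have hq := le_q F
  have hp2 := (Fact.out : p.Prime).two_le
  have n67 : chevE6 ≠ chevE7 := fun e => absurd (congrArg ChevalleyDatum.rank e) (by decide)
  rcases c.typ with ⟨rfl, rfl⟩ | ⟨rfl, rfl⟩
  · obtain rfl := (typ_l hp).2.1 rfl
    have hdd : ∀ e ∈ im F.L R, e ≠ 1 → dd p e = 24 ∨ dd p e = 30 := fun e he h1 => by
      obtain ⟨g, hg, h2⟩ := exists_out hr hc h1 (hE.pow e he)
      obtain ⟨K, k1, -, k2 | k2 | k2⟩ := exists_DD hp C.typ hr hrp (hE.pow e he)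
      · exact absurd ((k1 g (hE.comm g hg e he) ⟨1, by rw [pow_one, hE.pow g hg]⟩).2 (k2 g (hE.comm g hg e he)))
          (not_tp hE hc c.ntor he h1 hg h2)
      · exact k2.2.2
      · exact absurd k2.1 n67
    by_cases h30 : ∃ e ∈ im F.L R, e ≠ 1 ∧ dd p e = 30
    · obtain ⟨e, he, h1, h2⟩ := h30
      obtain ⟨g, hg, h3, h4⟩ : ∃ g ∈ im F.L R, g ∉ Subgroup.zpowers e ∧ dd p g = 30 := by
        by_contra h3
        obtain ⟨z, hz⟩ := exists_conj_T hp hr hrp (n := 1) (by rw [pow_one, hE.pow e he])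
        refine h1 (Subgroup.zpowers_eq_bot.1 (C.nt.noT _ ⟨z, Subgroup.zpowers_le
          (H := (TT chevE6 (KK p)).comap (MulAut.conj z).toMonoidHom).2 hz⟩ fun φ hφ => Subgroup.zpowers_le
            (H := (Subgroup.zpowers e).comap (φ : MulAut (YY chevE6 p)).toMonoidHom).2 ?_))
        by_contra h4
        exact h3 ⟨_, inv_im C.cx.setup.normal hH φ hφ e he, h4, (dd_sfr (F.L.sfr
          (fun k => absurd (congrArg ChevalleyDatum.rank k) (by decide)) φ φ.2) hz).trans h2⟩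
      obtain ⟨k, h5, h6 | h6 | ⟨-, rfl⟩⟩ := (hY _ _ _ hp p C.typ _ e g (hP e he g hg) (not_tp hE hc c.ntor he h1 hg h3)).2 _ _
        (fb F) (hσ e he) (hσ g hg) fun _ => ⟨h2, h4⟩
      · exact absurd h6.1 n67
      · exact absurd h6.1 n67
      refine gd_tg F C.cx.setup hRT hH hE c.card he h1 hg h3 h5 (d := 24) h2.le ?_
      rw [nmk_E6]
      exact num 3 two_pos (hp2.trans hq) rfl rfl rfl (by decide) (by decide +kernel)
    · have h24 : ∀ e ∈ im F.L R, e ≠ 1 → dd p e = 24 := fun e he h1 => (hdd e he h1).resolve_right fun k => h30 ⟨e, he, h1, k⟩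
      obtain ⟨e, he, h1⟩ := exists_ne hr hc
      obtain ⟨g, hg, h2⟩ := exists_out hr hc h1 (hE.pow e he)
      have h3 := (hY _ _ _ hp p C.typ _ e g (hP e he g hg) (not_tp hE hc c.ntor he h1 hg h2)).1 rfl (h24 e he h1)
      have h4 := pure_eq hp hE h24
      have h5 : Fx p ({e, g} : Set (YY chevE6 p)) ≤ Fx p (im F.L R : Set (YY chevE6 p)) := fun v hv y hy =>
        le_of_two hr hc he h1 (hE.pow e he) hg h2 (K := Sv v) (hv e (.inl rfl)) (hv g (.inr rfl)) hy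
      have h6 := Submodule.finrank_mono h5
      rw [hc, show 6 + chevE6.nroots = 78 by rw [nrE6]] at h4
      push_cast at h4
      omega
  · obtain rfl := (typ_l hp).2.2.1 rfl
    obtain ⟨e, he, h1⟩ := exists_ne hr hc
    obtain ⟨g, hg, h2⟩ := exists_out hr hc h1 (hE.pow e he)
    have h3 : 3 ≤ p ^ f := le_trans (by omega) hq
    obtain ⟨k, h5, ⟨-, h6, rfl⟩ | ⟨-, h6, rfl⟩ | h6⟩ := (hY _ _ _ hp p C.typ _ e g (hP e he g hg)
      (not_tp hE hc c.ntor he h1 hg h2)).2 _ _ (fb F) (hσ e he) (hσ g hg) fun k => absurd k.symm n67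
    · refine gd_tg F C.cx.setup hRT hH hE c.card he h1 hg h2 h5 (d := 56) h6.le ?_
      rw [nmk_E7]
      exact num 2 three_pos h3 rfl rfl rfl (by decide) (by decide +kernel)
    · refine gd_tg F C.cx.setup hRT hH hE c.card he h1 hg h2 h5 (d := 72) h6.le ?_
      rw [nmk_E7]
      exact num 2 three_pos h3 rfl rfl rfl (by decide) (by decide +kernel)
    · exact absurd h6.1.symm n67

end Cfsg.Agent.N2.Ex.CC
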