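import Cfsg.Agent.N2.Ex.CC.Defs

/-!
# N2 (S3519), `BoxCC`: a stable frame (helper99)

`boxFr`.
-/

set_option autoImplicit false
set_option linter.unusedSectionVars false

namespace Cfsg.Agent.N2.Ex.CC

open CoxeterSystem Cfsg Cfsg.Lie Cfsg.Lie.ChevalleyDatum
open Cfsg.Agent.ChevalleyStructure Cfsg.Agent.ChevalleyStructure.CoxeterGeom Cfsg.Agent.Tits.Roots Cfsg.Agent.Nodes
  Cfsg.Agent.Nodes.BNOf Cfsg.Agent.Nodes.RGDChev Cfsg.Agent.Nodes.Coroot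
open Cfsg.Agent.KFacts.RgdChevCoord Cfsg.Agent.BpExc.Fr Cfsg.Agent.BpExc.LangFr
open Cfsg.Agent.H469.Exc Cfsg.Agent.H316.U6 Cfsg.Agent.H129.TorusChar Cfsg.Agent.DS.Ex Cfsg.Agent.DS.Nt
open Cfsg.Agent.DS.Ex.Tor (RT FR MS)
open Cfsg.Agent.N2.Ex.Al (LL cp ac GW Ch)

namespace FrA

variable {D : ChevalleyDatum} {l : ℕ} {M : CoxeterMatrix (Fin l)} {hp : IsType D l M} {p : ℕ} [Fact p.Prime]

theorem gw_left {g : LL l ≃+ LL l} (h : GW hp g) (v : M.Group) : GW hp ((ac hp v).trans g) := by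
  obtain ⟨w, h | ⟨h0, h⟩⟩ := h
  · exact ⟨w * v, .inl fun a => (h _).trans (rep_mul_apply _ _ _ _ _).symm⟩
  · exact ⟨w * v, .inr ⟨h0, fun a => (h _).trans (congrArg Neg.neg (rep_mul_apply _ _ _ _ _).symm)⟩⟩

theorem gw_right {g : LL l ≃+ LL l} (h : GW hp g) (v : M.Group) : GW hp (g.trans (ac hp v)) := by
  obtain ⟨w, h | ⟨h0, h⟩⟩ := h
  · exact ⟨v * w, .inl fun a => (congrArg (ac hp v) (h a)).trans (rep_mul_apply _ _ _ _ _).symm⟩
  · exact ⟨v * w, .inr ⟨h0, fun a => (congrArg (ac hp v) (h a)).trans ((map_neg _ _).trans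
      (congrArg Neg.neg (rep_mul_apply _ _ _ _ _).symm))⟩⟩

/-- the image under a positive frame automorphism -/
theorem qs_map {β : MulAut (YY D p)} {g : LL l ≃+ LL l} (F : FR hp p β g) (hg : ∀ a, RT hp a → 0 ≤ a → 0 ≤ g a)
    {e f : YY D p} {w : M.Group} (h : Qs hp p e f w) : ∃ w', Qs hp p (β e) (β f) w' := by
  have F' := (F.mul h.rp.fr).mul F.inv
  rw [mul_conj_eq, mul_inv_cancel_right] at F'
  obtain ⟨w', h1, h2⟩ := Tor.inner F'
  have h3 := (F.tor e).2 h.mem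
  refine ⟨w', h3, h1, by rw [← map_mul, h.comm, map_mul], fun a ha h0 => ?_⟩
  obtain ⟨b, rfl⟩ := g.surjective a
  have h4 : RT hp b := (F.root b).1 ha.1
  have h5 : b ∈ Ps hp p {e} := (mem_Ps (Set.singleton_subset_iff.2 h.mem)).2 ⟨h4, fun t ht => by
    rw [ht]
    refine cX_eq_one_of_comm h.mem h4 one_ne_zero (β.injective ?_)
    rw [map_mul, map_mul]
    exact comm_X h3 ha.1 (((mem_Ps (Set.singleton_subset_iff.2 h3)).1 ha).2 _ rfl) ((F.map b h4 _).2 (xc_mem h4 1))⟩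
  have h6 : 0 ≤ b := h4.pos_or_neg.elim id fun h6 => by
    have h7 := hg _ h4.neg (neg_nonneg.2 h6)
    rw [map_neg] at h7
    exact (ha.1.not_pos_neg h0 (neg_nonneg.1 h7)).elim
  have h7 : ac hp w' (g b) = g (ac hp w b) := by
    rw [ac, ← h2]
    simp
  rw [h7]
  exact hg _ ((h.rp.fr.root b).2 h4) (h.pos b h5 h6)

end FrA

open FrA

/-- **a stable frame** -/
theorem boxFr : BoxFr := by
  intro hL hCur hCj D l M hp p _ hT n σ e f w hσ he hf hQ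
  have := finW hp
  obtain ⟨y, g, F, hg⟩ := hσ.fr
  obtain ⟨v, -, hv⟩ := exists_adjust (cs := M.toCoxeterSystem) (h := hp.isCartan) {a | RT hp a} ⊤
    (fun a ⟨u, i, h⟩ => ⟨u, i, h, trivial⟩) g fun a ha => (F.root a).2 ha
  obtain ⟨k, hk⟩ := exists_RP hp p v
  have F1 := F.mul hk.fr
  rw [mul_assoc, mul_conj_eq, ← mul_assoc, ← map_mul] at F1
  generalize y * σ k = y₁ at F1
  obtain ⟨w', h1⟩ := qs_map F1 hv hQ
  obtain ⟨c, hc, u, hu⟩ := hCj hCur D l M hp p hT e f _ _ y₁⁻¹ w w' hQ h1 (by rw [conj_mul_apply, he]; group)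
    (by rw [conj_mul_apply, hf]; group)
  have F2 := hu.fr.mul F1
  rw [← mul_assoc, ← map_mul, inv_mul_cancel_right] at F2
  obtain ⟨z, hz, h2⟩ := hL D l M hp p hT n (MulAut.conj c⁻¹ * σ) {e, f} hσ.pos (hσ.frob.conj_mul _) (fun x hx => by
    have h2 : σ x = x := by
      rcases hx with rfl | rfl
      exacts [he, hf]
    rw [conj_mul_apply, h2, inv_inv, mul_assoc, Cc_le _ hc x hx, inv_mul_cancel_left]) c hc
  refine ⟨z, _, (Cc_le _ hz e (by simp)).symm, (Cc_le _ hz f (by simp)).symm, ?_, gw_right (gw_left hg v) u⟩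
  have h3 : MulAut.conj z * σ * (MulAut.conj z)⁻¹ = MulAut.conj c⁻¹ * σ := by
    rw [← map_inv, mul_assoc, mul_conj_eq, ← mul_assoc, ← map_mul]
    congr 2
    rw [conj_mul_apply, inv_inv, ← mul_assoc, ← mul_assoc, right_eq_mul] at h2
    calc z * σ z⁻¹ = z * (z⁻¹ * c⁻¹ * σ z) * (σ z)⁻¹ := by rw [h2, mul_one, map_inv]
      _ = c⁻¹ := by group
  rwa [h3]

end Cfsg.Agent.N2.Ex.CC
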