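import Cfsg.Agent.N2.Ex.CC.Defs

/-!
# N2 / CC : Lang's theorem for the group generated by the polynomial curves in a centraliser (helper24)
-/

set_option autoImplicit false
set_option linter.unusedSectionVars false
set_option maxHeartbeats 400000

namespace Cfsg.Agent.N2.Ex.CC

open Cfsg Cfsg.Lie Cfsg.Lie.ChevalleyDatum Cfsg.Agent.BpExc.LangFr Cfsg.Agent.H469.Exc Cfsg.Agent.LangThm
open Cfsg.Agent.DS.Ex hiding Gam

namespace La

variable {D : ChevalleyDatum} {p : ℕ} [Fact p.Prime]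

theorem gam_eq (Z : Set (YY D p)) : Gam (Subtype.val : Cv p Z → _) (KK p) = (Cc p Z).map (Subgroup.subtype _) := by
  rw [Cc, MonoidHom.map_closure, Gam]
  congr 1
  ext g
  refine ⟨?_, ?_⟩
  · rintro ⟨γ, a, rfl⟩
    obtain ⟨y, -, e⟩ := γ.2.2 a
    exact ⟨y, ⟨γ, γ.2, a, e⟩, e⟩
  · rintro ⟨y, ⟨γ, hγ, a, e⟩, rfl⟩
    exact ⟨⟨γ, hγ⟩, a, e⟩

/-- the image of a curve -/
noncomputable def im (n : ℕ) (J : GL D.Idx (KK p)) (γ : GL D.Idx (Polynomial (KK p))) : GL D.Idx (Polynomial (KK p)) :=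
  mp (Algebra.ofId (KK p) _) J * frob p n γ * (mp (Algebra.ofId (KK p) _) J)⁻¹

theorem ev_im (n : ℕ) (J : GL D.Idx (KK p)) (γ : GL D.Idx (Polynomial (KK p))) (a : KK p) :
    ev a (im n J γ) = J * frob p n (ev a γ) * J⁻¹ := by
  have h : ev a (mp (Algebra.ofId (KK p) (Polynomial (KK p))) J) = J := by
    rw [ev, mp_mp, Subsingleton.elim (AlgHom.comp _ _) (AlgHom.id _ _), mp_id]
  rw [im, map_mul, map_mul, map_inv, h, ev, mp_frob]

theorem im_mem {n : ℕ} {σ : MulAut (YY D p)} {J : GL D.Idx (KK p)}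
    (hJ : ∀ g, (σ g : GL D.Idx (KK p)) = J * frob p n (g : GL D.Idx (KK p)) * J⁻¹) {Z : Set (YY D p)} (hZ : ∀ z ∈ Z, σ z = z)
    {γ : GL D.Idx (Polynomial (KK p))} (h : γ ∈ Cv p Z) : im n J γ ∈ Cv p Z :=
  ⟨by rw [ev_im, h.1, map_one, mul_one, mul_inv_cancel], fun a =>
    let ⟨y, hy, e⟩ := h.2 a
    ⟨σ y, fun z hz => by rw [← hZ z hz, ← map_mul, hy z hz, map_mul], by rw [ev_im, hJ, e]⟩⟩

end La

open La in
/-- **[Lang]** -/
theorem boxLang : BoxLang := by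
  intro D l M hp p _ _ n σ Z hn ⟨J, hJ⟩ hZ c hc
  have h1 : ∀ y ∈ Cc p Z, σ y ∈ Cc p Z := fun y hy => by
    refine ((Subgroup.closure_le _).2 ?_ : Cc p Z ≤ (Cc p Z).comap σ.toMonoidHom) hy
    rintro x ⟨γ, hγ, a, e⟩
    exact Subgroup.subset_closure ⟨_, im_mem hJ hZ hγ, a, by rw [ev_im, ← e]; exact hJ x⟩
  have h2 : ∀ g ∈ Gam (Subtype.val : Cv p Z → _) (KK p), J * frob p n g * J⁻¹ ∈ Gam (Subtype.val : Cv p Z → _) (KK p) := by
    rw [La.gam_eq]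
    rintro _ ⟨y, hy, rfl⟩
    exact ⟨σ y, h1 y hy, hJ y⟩
  let F : Monoid.End ↥(Gam (Subtype.val : Cv p Z → _) (KK p)) :=
    MonoidHom.mk' (fun g => ⟨J * frob p n g * J⁻¹, h2 g g.2⟩) fun g h => Subtype.ext (by
      show J * frob p n ((g : GL D.Idx (KK p)) * (h : GL D.Idx (KK p))) * J⁻¹ = (J * frob p n g * J⁻¹) * (J * frob p n h * J⁻¹)
      rw [map_mul]
      group)
  obtain ⟨z, e⟩ := lang p n 1 hn (fun γ : Cv p Z => γ.2.1) F (Y := fun γ => im n J γ)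
    (fun γ => by
      have := ev_mem (X := (Subtype.val : Cv p Z → _)) ⟨_, im_mem hJ hZ γ.2⟩ (Polynomial.X : Polynomial (KK p))
      rwa [ev, Polynomial.aeval_X_left, mp_id] at this)
    (fun γ a => (ev_im n J γ a).symm) J (fun g => by rw [pow_one]; rfl) ⟨c, (La.gam_eq Z).ge ⟨c, hc, rfl⟩⟩
  obtain ⟨y, hy, e'⟩ := (La.gam_eq Z).le z.2
  refine ⟨y, hy, Subtype.ext ?_⟩
  rw [Subgroup.coe_mul, Subgroup.coe_inv, hJ, show (y : GL D.Idx (KK p)) = z from e']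
  exact congrArg Subtype.val e

end Cfsg.Agent.N2.Ex.CC
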