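import Cfsg.Agent.N2.Ex.CC.Defs
import Cfsg.Agent.N2.Ex.Al.TbD

/-!
# N2 (S3519), `E₇`: the lattice boxes for `r = 2` (helper97)

The short reflections of the folded system are transitive on the pairs of short roots at `120°` (checked on the tables).
-/

set_option autoImplicit false
set_option linter.unusedSectionVars false
set_option maxRecDepth 100000

namespace Cfsg.Agent.N2.Ex.CC

open CoxeterSystem Cfsg Cfsg.Lie Cfsg.Lie.ChevalleyDatum
open Cfsg.Agent.ChevalleyStructure Cfsg.Agent.ChevalleyStructure.CoxeterGeom Cfsg.Agent.Tits.Roots Cfsg.Agent.Nodes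
  Cfsg.Agent.Nodes.BNOf Cfsg.Agent.Nodes.RGDChev Cfsg.Agent.Nodes.Coroot
open Cfsg.Agent.DS.Ex Cfsg.Agent.DS.Nt
open Cfsg.Agent.DS.Ex.Tor (RT)
open Cfsg.Agent.N2.Ex.Al (LL cp ac GW Ch)
open Cfsg.Agent.N2.Ex.Al.Ck
open Cfsg.Agent.H931.KC (psi)

namespace Lt79

/-- the symmetry on the indices -/
noncomputable def vi (r : ℕ) : ℕ := tbE7.aw [46, 47, 48] r

/-- the coordinate `j` is even -/
def pc (j r : ℕ) : Bool := Nat.beq (Nat.mod (tbE7.u r j) 2) 0

/-- and the orbit is orthogonal -/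
noncomputable def ok (j r : ℕ) : Bool := and (pc j r) (Nat.beq (tbE7.c (vi r) r) 2)

/-- the word in the reflections -/
noncomputable def ex (w : List ℕ) : List ℕ := List.rec (motive := fun _ => List ℕ) [] (fun s _ ih => s :: vi s :: ih) w

/-- `w` maps the orbit of `s` onto the orbit of `b` -/
noncomputable def inb (w : List ℕ) (s b : ℕ) : Bool :=
  or (and (Nat.beq (tbE7.aw w s) b) (Nat.beq (tbE7.aw w (vi s)) (vi b)))
    (and (Nat.beq (tbE7.aw w s) (vi b)) (Nat.beq (tbE7.aw w (vi s)) b))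

/-- the letters are allowed -/
noncomputable def gen (j : ℕ) (L : List (List ℕ)) : Bool := lA (lA fun s => and (Nat.blt s 126) (ok j s)) L

/-- transitivity -/
noncomputable def tr (j a b d : ℕ) (L₁ L₂ : List (List ℕ)) : Bool :=
  aL (fun s => or (not (ok j s)) (lE (fun w₁ => and (inb (ex w₁) s b) (aL (fun t => or (not (and (ok j t)
    (and (Nat.beq (tbE7.c s t) (tbE7.c a b)) (Nat.beq (tbE7.c (vi s) t) (tbE7.c (vi a) b)))))
    (lE (fun w₂ => and (inb (ex (w₂ ++ w₁)) s b) (inb (ex (w₂ ++ w₁)) t d)) L₂)) 126)) L₁)) 126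

/-- the value of the functional of the orbit of `a` -/
noncomputable def val (a r : ℕ) : ℤ := (tbE7.c r a : ℤ) - 2 + ((tbE7.c r (vi a) : ℤ) - 2)

/-- the norm -/
noncomputable def nm (a b r : ℕ) : ℤ := val a r ^ 2 + val a r * val b r + val b r ^ 2

/-- the other checks -/
noncomputable def bs (j a b d k : ℕ) : Bool :=
  decide (a < 126 ∧ b < 126 ∧ d < 126 ∧ vi (vi a) = a ∧ vi (vi b) = b) && ok j a && ok j b &&
    aL (fun i => decide (val d i = -val a i - val b i)) 7 &&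
    aL (fun r => or (not (pc j r)) (decide (0 ≤ nm a b r ∧ nm a b r ≤ 4))) 126 &&
    Nat.ble (cL (fun r => and (pc j r) (decide (nm a b r = 0))) 126) k

theorem vi_sr : ∀ i : Fin 7, lv 7 (V7.getD i []) = tbE7.vec 7 (vi i) := by decide +kernel

variable {M : CoxeterMatrix (Fin 7)} (hp : IsType chevE7 7 M)

/-- the functional of the orbit -/
noncomputable def fA (r : ℕ) (x : LL 7) : ℤ := cp hp x (tbE7.vec 7 r) + cp hp x (tbE7.vec 7 (vi r))

variable {hp} {v : M.Group} (hv : ∀ i : Fin 7, ac hp v (sr i) = lv 7 (V7.getD i []))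
include hv

theorem vv {r : ℕ} (hr : r < 126) : vi r < 126 ∧ tbE7.vec 7 (vi r) = ac hp v (tbE7.vec 7 r) := by
  have G := (gsE7 hp).toGt
  have hw : tbE7.lt [46, 47, 48] = true := by decide +kernel
  have e : v = wd hp tbE7 [46, 47, 48] := W_ext hp fun i => by
    rw [hv i, vi_sr i, ← G.sim i]
    exact (G.aw hw (G.lt_n i)).2
  rw [e]
  exact G.aw hw hr

theorem fA_add {r : ℕ} (hr : r < 126) (x y : LL 7) : fA hp r (x + y) = fA hp r x + fA hp r y := by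
  have G := (gsE7 hp).toGt
  rw [fA, fA, fA, cp_add hp _ _ (G.root r hr), cp_add hp _ _ (G.root _ (vv hv hr).1)]
  ring

theorem fA_vec {a r : ℕ} (ha : a < 126) (hr : r < 126) : fA hp a (tbE7.vec 7 r) = val a r := by
  have G := (gsE7 hp).toGt
  rw [fA, G.cpe r hr a ha, G.cpe r hr _ (vv hv ha).1, val]

theorem fA_v {a : ℕ} (ha : a < 126) (h : vi (vi a) = a) (x : LL 7) : fA hp a (ac hp v x) = fA hp a x := by
  have G := (gsE7 hp).toGt
  have h1 := vv hv ha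
  have h2 := (vv hv h1.1).2
  rw [h] at h2
  rw [fA, fA, add_comm]
  congr 1
  · rw [h1.2, cp_ac hp v x (G.root a ha)]
  · rw [← cp_ac hp v x (G.root _ h1.1), ← h2]

theorem fA_inb {w : List ℕ} (hw : tbE7.lt w = true) {s b : ℕ} (hs : s < 126) (h : inb w s b = true) (x : LL 7) :
    fA hp b (ac hp (wd hp tbE7 w) x) = fA hp s x := by
  have G := (gsE7 hp).toGt
  have h1 := (G.aw hw hs).2
  have h2 := (G.aw hw (vv hv hs).1).2
  simp only [inb, Bool.or_eq_true, Bool.and_eq_true, Nat.beq_eq] at h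
  rcases h with ⟨e1, e2⟩ | ⟨e1, e2⟩
  · rw [e1] at h1
    rw [e2] at h2
    rw [fA, fA, h1, h2, cp_ac hp _ x (G.root s hs), cp_ac hp _ x (G.root _ (vv hv hs).1)]
  · rw [e1] at h1
    rw [e2] at h2
    rw [fA, fA, h1, h2, cp_ac hp _ x (G.root s hs), cp_ac hp _ x (G.root _ (vv hv hs).1), add_comm]

variable {j : Fin 7} {c : List ℤ} (hc : ∀ x, psi (lv 7 c) x = x j)
include hc

omit hv in
theorem pc_iff {r : ℕ} (hr : r < 126) : tbE7.vec 7 r ∈ Pc hp 2 c ↔ pc j r = true := by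
  have G := (gsE7 hp).toGt
  rw [Pc, Set.mem_ofPred_eq, hc, pc, Nat.beq_eq, and_iff_right (G.root r hr)]
  show ((2 : ℕ) : ℤ) ∣ (tbE7.u r j : ℤ) - 8 ↔ tbE7.u r j % 2 = 0
  omega

theorem ok_iff {r : ℕ} (hr : r < 126) :
    ok j r = true ↔ tbE7.vec 7 r ∈ Pc hp 2 c ∧ cp hp (tbE7.vec 7 (vi r)) (tbE7.vec 7 r) = 0 := by
  have G := (gsE7 hp).toGt
  rw [ok, Bool.and_eq_true, pc_iff hc hr, G.cpe _ (vv hv hr).1 r hr, Nat.beq_eq]
  refine and_congr_right fun _ => ?_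
  omega

theorem ex_mem {W : Subgroup M.Group} (hW : ∀ a ∈ Pc hp 2 c, Ort hp 2 v a → ∃ w ∈ W, Ro hp 2 v a w) {w : List ℕ}
    (hw : ∀ s ∈ w, s < 126 ∧ ok j s = true) : tbE7.lt (ex w) = true ∧ wd hp tbE7 (ex w) ∈ W := by
  have G := (gsE7 hp).toGt
  induction w with
  | nil => exact ⟨rfl, one_mem _⟩
  | cons s w ih =>
    obtain ⟨h1, h2⟩ := ih fun x hx => hw x (List.mem_cons_of_mem _ hx)
    obtain ⟨h3, h4⟩ := hw s List.mem_cons_self
    obtain ⟨h5, h6⟩ := (ok_iff hv hc h3).1 h4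
    have h7 := vv hv h3
    refine ⟨lt_iff.2 (List.forall_mem_cons.2 ⟨h3, List.forall_mem_cons.2 ⟨h7.1, lt_iff.1 h1⟩⟩), ?_⟩
    obtain ⟨u, hu, h8⟩ := hW _ h5 fun i i0 i2 => by
      rw [show i = 1 by omega, pow_one, ← h7.2, h6]
    have e : u = rw' hp (tbE7.vec 7 s) * rw' hp (tbE7.vec 7 (vi s)) := W_ext hp fun i => by
      rw [h8, Finset.sum_range_succ, Finset.sum_range_one, pow_zero, pow_one, ac_one, ← h7.2, ac_mul,
        ac_rw hp (G.root _ h7.1), ac_rw hp (G.root _ h3), sub_eq_add_neg (sr i) (_ • tbE7.vec 7 (vi s)), ← neg_smul,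
        cp_add hp _ _ (G.root _ h3), cp_smul hp _ _ (G.root _ h3), h6]
      module
    show wd hp tbE7 (s :: vi s :: ex w) ∈ W
    rw [wd_cons, wd_cons, ← mul_assoc, ← e]
    exact mul_mem hu h2

theorem img {g : LL 7 ≃+ LL 7} (hg : GW hp g) (h1 : ∀ x, g (ac hp v x) = ac hp v (g x))
    (h2 : ∀ a ∈ Pc hp 2 c, g a ∈ Pc hp 2 c) {a : ℕ} (ha : a < 126) (h : ok j a = true) :
    ∃ s < 126, ok j s = true ∧ tbE7.vec 7 s = g (tbE7.vec 7 a) ∧ tbE7.vec 7 (vi s) = g (tbE7.vec 7 (vi a)) ∧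
      ∀ x, fA hp s (g x) = fA hp a x := by
  have G := (gsE7 hp).toGt
  obtain ⟨s, hs, e⟩ := G.surj _ (gw_rt hg (G.root a ha))
  obtain ⟨h3, h4⟩ := (ok_iff hv hc ha).1 h
  have e' : tbE7.vec 7 (vi s) = g (tbE7.vec 7 (vi a)) := by rw [(vv hv hs).2, (vv hv ha).2, h1, e]
  refine ⟨s, hs, (ok_iff hv hc hs).2 ⟨e ▸ h2 _ h3, ?_⟩, e, e', fun x => ?_⟩
  · rw [e, e', gw_cp hg _ (G.root a ha), h4]
  · rw [fA, fA, e, e', gw_cp hg _ (G.root a ha), gw_cp hg _ (G.root _ (vv hv ha).1)]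

theorem lt_of {a b d k : ℕ} {L₁ L₂ : List (List ℕ)} (c0 : bs j a b d k = true) (c1 : gen j L₁ = true)
    (c2 : gen j L₂ = true) (c3 : tr j a b d L₁ L₂ = true) {W : Subgroup M.Group} {g : LL 7 ≃+ LL 7} {q m : ℕ}
    (hW : ∀ a ∈ Pc hp 2 c, Ort hp 2 v a → ∃ w ∈ W, Ro hp 2 v a w) (hg : GW hp g)
    (h1 : ∀ x, g (ac hp v x) = ac hp v (g x)) (h2 : ∀ a ∈ Pc hp 2 c, g a ∈ Pc hp 2 c) (hm : 5 ≤ m)
    (hq : m ∣ q ^ 2 + q + 1) :
    ∃ w ∈ W, ∃ φ : LL 7 →+ ℤ, Ch q (g.trans (ac hp w)) m φ ∧ (∀ x, φ (ac hp v x) = φ x) ∧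
      {a ∈ Pc hp 2 c | (m : ℤ) ∣ φ a}.ncard ≤ k := by
  have G := (gsE7 hp).toGt
  simp only [bs, Bool.and_eq_true, decide_eq_true_eq, aL_iff, Bool.or_eq_true, Bool.not_eq_true', Nat.ble_eq] at c0
  obtain ⟨⟨⟨⟨⟨⟨ha, hb, hd, va, vb⟩, oa⟩, ob⟩, ed⟩, en⟩, ek⟩ := c0
  simp only [gen, lA_iff, Bool.and_eq_true, Nat.blt_eq] at c1 c2
  obtain ⟨s, hs, os, s1, s2, s3⟩ := img hv hc hg h1 h2 ha oa
  obtain ⟨t, ht, ot, t1, -, t3⟩ := img hv hc hg h1 h2 hb ob
  simp only [tr, aL_iff, Bool.or_eq_true, Bool.not_eq_true', lE_iff, Bool.and_eq_true] at c3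
  obtain ⟨w₁, m1, -, k1⟩ := (c3 s hs).resolve_left (by rw [os]; exact Bool.noConfusion)
  have a1 : tbE7.c s t = tbE7.c a b := by
    have := G.cpe s hs t ht
    rw [s1, t1, gw_cp hg _ (G.root b hb), G.cpe a ha b hb] at this
    omega
  have a2 : tbE7.c (vi s) t = tbE7.c (vi a) b := by
    have := G.cpe _ (vv hv hs).1 t ht
    rw [s2, t1, gw_cp hg _ (G.root b hb), G.cpe _ (vv hv ha).1 b hb] at this
    omega
  obtain ⟨w₂, m2, k2, k3⟩ := (k1 t ht).resolve_left (by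
    rw [ot, a1, a2, Nat.beq_refl, Nat.beq_refl]; exact Bool.noConfusion)
  obtain ⟨k4, k5⟩ := ex_mem hv hc hW (w := w₂ ++ w₁) fun x hx =>
    (List.mem_append.1 hx).elim (c2 w₂ m2 x) (c1 w₁ m1 x)
  have hq' : (m : ℤ) ∣ (q : ℤ) ^ 2 + q + 1 := by exact_mod_cast hq
  have eD : ∀ x, fA hp d x = -fA hp a x - fA hp b x := fun x => by
    have := hom_ext (f := AddMonoidHom.mk' (fA hp d) (fA_add hv hd))
      (g := -AddMonoidHom.mk' (fA hp a) (fA_add hv ha) - AddMonoidHom.mk' (fA hp b) (fA_add hv hb)) fun i => by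
        show fA hp d (sr i) = -fA hp a (sr i) - fA hp b (sr i)
        rw [← G.sim i, fA_vec hv ha (G.lt_n i), fA_vec hv hb (G.lt_n i), fA_vec hv hd (G.lt_n i)]
        exact ed i i.2
    exact DFunLike.congr_fun this x
  refine ⟨_, k5, AddMonoidHom.mk' (fun x => fA hp a x + (q + 1) * fA hp b x) fun x y => by
    rw [fA_add hv ha, fA_add hv hb]; ring, fun x => ?_, fun x => ?_, ?_⟩
  · have e1 := (fA_inb hv k4 hs k2 (g x)).trans (s3 x)
    have e2 := (fA_inb hv k4 ht k3 (g x)).trans (t3 x)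
    rw [eD, e1] at e2
    show (m : ℤ) ∣ fA hp a (ac hp _ (g x)) + (q + 1) * fA hp b (ac hp _ (g x)) - q * (fA hp a x + (q + 1) * fA hp b x)
    rw [e1, show fA hp a (ac hp (wd hp tbE7 (ex (w₂ ++ w₁))) (g x)) = -fA hp a x - fA hp b x by linarith]
    exact (hq'.mul_right (-fA hp b x)).trans (dvd_of_eq (by ring))
  · show fA hp a (ac hp v x) + (q + 1) * fA hp b (ac hp v x) = fA hp a x + (q + 1) * fA hp b x
    rw [fA_v hv ha va, fA_v hv hb vb]
  · refine le_trans ?_ ek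
    rw [show (126 : ℕ) = tbE7.n from rfl, ← G.ncard_eq (P := fun x => x ∈ Pc hp 2 c ∧
      fA hp a x ^ 2 + fA hp a x * fA hp b x + fA hp b x ^ 2 = 0) fun r hr => by
        rw [pc_iff hc hr, fA_vec hv ha hr, fA_vec hv hb hr, Bool.and_eq_true, decide_eq_true_eq, nm]]
    refine Set.ncard_le_ncard ?_ ((gsE7 hp).fin_rt.subset fun x hx => hx.1)
    rintro x ⟨x1, x2⟩
    obtain ⟨r, hr, rfl⟩ := G.surj x x1.1
    refine ⟨x1.1, x1, ?_⟩
    have x3 : (m : ℤ) ∣ val a r + (q + 1) * val b r := by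
      rw [← fA_vec hv ha hr, ← fA_vec hv hb hr]
      exact x2
    have x4 := (en r hr).resolve_left (by rw [(pc_iff hc hr).1 x1]; exact Bool.noConfusion)
    rw [fA_vec hv ha hr, fA_vec hv hb hr]
    have x5 : (m : ℤ) ∣ nm a b r := by
      have := (x3.mul_right (val a r - q * val b r)).add (hq'.mul_right (val b r ^ 2))
      exact this.trans (dvd_of_eq (by rw [nm]; ring))
    exact Int.eq_zero_of_dvd_of_nonneg_of_lt (m := nm a b r) x4.1 (by omega) x5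

end Lt79

/-- **the row `E₆ T₁`** -/
theorem boxLt79 : BoxLt 79 := by
  intro D l M hp r k c V v W g q m hR hv hW _ hg h1 h2 _ hm hq
  rcases hR with ⟨-, -, -, -, h, -⟩ | ⟨rfl, rfl, rfl, rfl, -, rfl⟩ | ⟨-, -, -, -, h, -⟩
  · omega
  · obtain rfl := (typ_l hp).2.2.1 rfl
    exact Lt79.lt_of hv (j := 6) (fun x => by simp [psi, lv, Fin.sum_univ_seven]) (a := 5) (b := 4) (d := 74)
      (L₁ := [[0, 2], [], [0], [7, 13], [2, 20], [7, 19], [2, 25], [13], [19], [2, 36], [31], [0, 31], [7], [2], [0, 7],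
        [0, 20], [20], [0, 25], [25], [2, 13], [2, 19], [36], [2, 31], [7, 36]])
      (L₂ := [[], [14, 41], [9, 41], [41], [9, 14, 41], [9], [14], [9, 14]])
      (by decide +kernel) (by decide +kernel) (by decide +kernel) (by decide +kernel) hW hg h1 h2 hm hq
  · omega

/-- **the row `A₇`** -/
theorem Lt79.boxLt63 : BoxLt 63 := by
  intro D l M hp r k c V v W g q m hR hv hW _ hg h1 h2 _ hm hq
  rcases hR with ⟨rfl, rfl, rfl, rfl, -, rfl⟩ | ⟨-, -, -, -, h, -⟩ | ⟨-, -, -, -, h, -⟩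
  · obtain rfl := (typ_l hp).2.2.1 rfl
    exact Lt79.lt_of hv (j := 1) (fun x => by simp [psi, lv, Fin.sum_univ_seven]) (a := 6) (b := 5) (d := 75)
      (L₁ := [[], [0, 7], [0, 12], [2], [0, 13], [6], [9], [2, 6], [2, 9], [6, 9], [0, 33], [30], [0, 30], [33], [2, 33],
        [7, 12], [0, 6], [12], [0], [7], [0, 2], [13], [0, 9], [6, 33]])
      (L₂ := [[18], [18, 20, 24], [24], [18, 24], [20], [], [20, 24], [18, 20]])
      (by decide +kernel) (by decide +kernel) (by decide +kernel) (by decide +kernel) hW hg h1 h2 hm hq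
  · omega
  · omega

end Cfsg.Agent.N2.Ex.CC
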