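import Cfsg.Agent.N2.Ex.CC.Defs
import Cfsg.Agent.DL.Ex.Split
import Cfsg.Agent.DL.Dat.Conj

/-!
# N2 (S3519), `BoxCC`: an element of `N` which centralises `X a` centralises `X (-a)` (helper30)
-/

set_option autoImplicit false
set_option linter.unusedSectionVars false
set_option maxHeartbeats 200000

namespace Cfsg.Agent.N2.Ex.CC

namespace Ng

open Cfsg.Agent.DL Cfsg.Agent.DL.Datum Cfsg.Agent.Tits.Roots Cfsg.Agent.Nodes.Reps Cfsg.Agent.Nodes.BNOf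
  Cfsg.Agent.ChevalleyStructure.CoxeterGeom

variable {p : ℕ} [Fact p.Prime] {k : Type} [Field k] [CharP k p] {Y : Type} [Group Y] {N : Type} [Fintype N]
  [DecidableEq N] {ρ : Y →* GL N k} {F : MulAut Y} {G : Subgroup Y} [IsAlgClosed k] (D : Datum p ρ F G)

theorem rk1 (i : D.I) {u : Y} (hu : u ∈ D.X (-sr i)) (h1 : u ≠ 1) :
    ∃ a ∈ D.X (sr i), ∃ m, D.Rp (D.cs.simple i) m ∧ ∃ b ∈ D.X (sr i), u = a * m * b := by
  obtain ⟨j, hj⟩ := D.exists_lv u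
  obtain ⟨a, ha, t, ht, b, hb, e⟩ := (D.tow.rgd j).rk1 i u ⟨hu, hj⟩ h1
  exact ⟨a, ha.1, t * D.n i, by simpa using (rp_of_mem (cs := D.cs) (hN := D.nsys) ht.1).mul (rp_simple _ _ i), b, hb.1,
    by rw [e, mul_assoc a]⟩

theorem act_eq {w : D.W} {g : Y} (hg : D.Rp w g) {a : D.I → ℤ} (ha : D.Rt a) (h : ∀ x ∈ D.X a, g * x = x * g) :
    D.act w a = a := by
  by_contra h1
  have h2 := D.conj_mem hg ha (D.x_mem ha 1)
  rw [h _ (D.x_mem ha 1), mul_inv_cancel_right] at h2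
  exact one_ne_zero ((D.x_eq_one_iff ha).1 (D.eq_one_of_mem_X_X (ha.act w) ha h1 h2 (D.x_mem ha 1)))

theorem neg_sr (i : D.I) {w : D.W} {g : Y} (hg : D.Rp w g) (h : ∀ x ∈ D.X (sr i), g * x = x * g) {u : Y}
    (hu : u ∈ D.X (-sr i)) : g * u = u * g := by
  have hi := isRoot_sr D.cs D.h i
  have hU : D.X (sr i) ≤ D.U := RGD.le_Sup ⟨hi, sr_nonneg i⟩
  by_contra h3
  obtain ⟨a, ha, m, hm, b, hb, e⟩ := rk1 D i hu fun e => h3 (by rw [e, mul_one, one_mul])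
  have h2 := D.conj_mem hg hi.neg hu
  rw [act, map_neg, ← act, act_eq D hg hi h] at h2
  have e' : g * u * g⁻¹ = a * (g * m * g⁻¹) * b := by
    rw [e, ← mul_assoc, ← mul_assoc, h a ha, mul_assoc _ b, (Commute.inv_left (h b hb)).symm.eq]
    group
  obtain ⟨a', ha', m', hm', b', hb', e''⟩ := rk1 D i (mul_mem (inv_mem hu) h2) fun e =>
    h3 (mul_inv_eq_iff_eq_mul.1 (inv_mul_eq_one.1 e).symm)
  have h4 := (D.eq_of_mem_UNU (hU (inv_mem hb)) (hU ha') (hm.inv.mul ((hg.mul hm).mul hg.inv)) hm' (hU hb) (hU hb')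
    (by rw [← e'', e', e]; group)).1
  exact KFacts.RgdDiag.simple_ne_one i
    (conj_eq_one_iff.1 ((inv_mul_eq_iff_eq_mul.1 h4).trans (D.cs.simple_mul_simple_self i)))

theorem neg {w : D.W} {g : Y} (hg : D.Rp w g) {a : D.I → ℤ} (ha : D.Rt a) (h : ∀ x ∈ D.X a, g * x = x * g) {u : Y}
    (hu : u ∈ D.X (-a)) : g * u = u * g := by
  have h0 := ha.neg
  obtain ⟨v, i, rfl⟩ := ha
  obtain ⟨m, hm⟩ := Nodes.Reps.exists_rp D.cs D.nsys v
  have h1 := D.conj_mem hm.inv h0 hu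
  rw [act, map_neg, rep_inv_apply] at h1
  have h2 := neg_sr D i ((hm.inv.mul hg).mul hm) (fun x hx => by
    have h3 := h _ (D.conj_mem hm (isRoot_sr _ _ i) hx)
    calc _ = m⁻¹ * (g * (m * x * m⁻¹)) * m := by group
      _ = _ := by rw [h3]; group) h1
  calc _ = m * (m⁻¹ * g * m * (m⁻¹ * u * m⁻¹⁻¹)) * m⁻¹ := by group
    _ = _ := by rw [h2]; group

end Ng

theorem boxNeg : BoxNeg := fun _ _ _ hp p _ _ _ _ _ ha hk h _ hu =>
  Ng.neg (DL.Ex.chev hp (H469.Exc.locFin p) one_pos) hk.toT ha h hu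

end Cfsg.Agent.N2.Ex.CC
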