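import Cfsg.Agent.N2.Ex.CC.Defs

/-!
# N2 (S3519), `E₆`, `E₇`: the normal forms of the pairs (helper58)
-/

set_option autoImplicit false
set_option linter.unusedSectionVars false
set_option maxRecDepth 100000

namespace Cfsg.Agent.N2.Ex.CC

open CoxeterSystem Cfsg Cfsg.Lie Cfsg.Lie.ChevalleyDatum
open Cfsg.Agent.ChevalleyStructure Cfsg.Agent.ChevalleyStructure.CoxeterGeom Cfsg.Agent.Tits.Roots Cfsg.Agent.Nodes
  Cfsg.Agent.Nodes.BNOf Cfsg.Agent.Nodes.RGDChev Cfsg.Agent.Nodes.Coroot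
open Cfsg.Agent.KFacts.RgdChevCoord Cfsg.Agent.BpExc.Fr Cfsg.Agent.BpExc.LangFr
open Cfsg.Agent.H469.Exc Cfsg.Agent.H316.U6 Cfsg.Agent.H129.TorusChar Cfsg.Agent.DS.Ex Cfsg.Agent.DS.Nt
open Cfsg.Agent.DS.Ex.Tor (RT FR MS)
open Cfsg.Agent.N2.Ex.Al (LL cp ac GW Ch)
open Cfsg.Agent.H931.KC

namespace Nf

/-- the symmetry `τ` is determined by its first `s` values -/
def Rg (D : ChevalleyDatum) (l : ℕ) (B : Fin l → Fin l → ℤ) (o : Fin (l + 1) → Option (Fin l))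
    (τ : Option (Fin l) → Option (Fin l)) (s : ℕ) (V : List (List ℤ)) : Prop :=
  (∀ j, ∃ k, o k = j) ∧ (∀ (k : Fin (l + 1)) y, s ≤ k.1 → H931.KC.mk D l y = H931.KC.mk D l (o k) → (∀ m, m < k →
    H92.NE.bl B (al D l (τ (o m))) (al D l y) = H92.NE.bl B (al D l (o m)) (al D l (o k))) → y = τ (o k)) ∧
    ∀ i j, al D l (τ (some i)) j = lv l (V.getD i []) j

/-- the form of `E₆` -/
def B6 : Fin 6 → Fin 6 → ℤ := ![![2, 0, -1, 0, 0, 0], ![0, 2, 0, -1, 0, 0], ![-1, 0, 2, -1, 0, 0],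
  ![0, -1, -1, 2, -1, 0], ![0, 0, 0, -1, 2, -1], ![0, 0, 0, 0, -1, 2]]

/-- the form of `E₇` -/
def B7 : Fin 7 → Fin 7 → ℤ := ![![2, 0, -1, 0, 0, 0, 0], ![0, 2, 0, -1, 0, 0, 0], ![-1, 0, 2, -1, 0, 0, 0],
  ![0, -1, -1, 2, -1, 0, 0], ![0, 0, 0, -1, 2, -1, 0], ![0, 0, 0, 0, -1, 2, -1], ![0, 0, 0, 0, 0, -1, 2]]

/-- a permutation of the nodes -/
def pm {l : ℕ} (a : Option (Fin l)) (f : Fin l → Option (Fin l)) (x : Option (Fin l)) : Option (Fin l) := x.elim a f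

theorem rg7 : Rg chevE7 7 B7 ![none, some 0, some 2, some 3, some 4, some 1, some 5, some 6]
    (pm (some 6) ![some 5, some 1, some 4, some 3, some 2, some 0, none]) 1 V7 := by
  unfold Rg
  decide +kernel

theorem rg6 : Rg chevE6 6 B6 ![none, some 0, some 1, some 2, some 3, some 4, some 5]
    (pm (some 0) ![some 5, some 2, some 4, some 3, some 1, none]) 2 V6 := by
  unfold Rg
  decide +kernel

theorem rg6' : Rg chevE6 6 B6 ![none, some 5, some 1, some 4, some 3, some 2, some 0]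
    (pm (some 5) ![none, some 4, some 1, some 3, some 2, some 0]) 2 W6 := by
  unfold Rg
  decide +kernel

/-- the number of the roots which are killed -/
def nr (D : ChevalleyDatum) (l r : ℕ) (c : List ℤ) : ℕ :=
  (Finset.univ.filter fun s : Fin D.nroots => (r : ℤ) ∣ psi (lv l c) (vec D l s)).card

theorem nr7 : nr chevE7 7 2 [0, 1, 0, 0, 0, 0, 0] = 56 ∧ nr chevE7 7 2 [0, 0, 0, 0, 0, 0, 1] = 72 := by decide +kernel

theorem nr6 : nr chevE6 6 3 [1, 0, 0, 0, 0, 1] = 24 ∧ nr chevE6 6 3 [0, 0, 0, 1, 0, 0] = 18 := by decide +kernel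

variable {D : ChevalleyDatum} {l : ℕ} {M : CoxeterMatrix (Fin l)} {hp : IsType D l M} {p : ℕ} [Fact p.Prime]

theorem Rg.eq {B : Fin l → Fin l → ℤ} {o : Fin (l + 1) → Option (Fin l)} {τ : Option (Fin l) → Option (Fin l)} {s : ℕ}
    {V : List (List ℤ)} (h : Rg D l B o τ s V) {π : Equiv.Perm (Option (Fin l))} (h0 : ∀ i, H931.KC.mk D l (π i) = H931.KC.mk D l i)
    (h1 : ∀ i j, H92.NE.bl B (al D l (π i)) (al D l (π j)) = H92.NE.bl B (al D l i) (al D l j))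
    (h2 : ∀ k : Fin (l + 1), k.1 < s → π (o k) = τ (o k)) (j : Option (Fin l)) : π j = τ j := by
  have h3 : ∀ N : ℕ, ∀ k : Fin (l + 1), (k : ℕ) < N → π (o k) = τ (o k) := by
    intro N
    induction N with
    | zero => exact fun k hk => absurd hk (Nat.not_lt_zero _)
    | succ N ih =>
      intro k hk
      refine (Nat.lt_or_ge k s).elim (h2 k) fun h4 => h.2.1 k _ h4 (h0 _) fun m hm => ?_
      rw [← ih m (lt_of_lt_of_le hm (Nat.lt_succ_iff.1 hk)), h1]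
  obtain ⟨k, rfl⟩ := h.1 j
  exact h3 (k + 1) k (Nat.lt_succ_self _)

theorem core {r : ℕ} {e f : YY D p} {w : M.Group} (h : P2 p r e f) (hq : Qs hp p e f w) (hw : w ≠ 1) :
    ∃ (g : YY D p) (u v : M.Group) (c : Fin l → ℕ) (c0 : ℕ) (π : Equiv.Perm (Option (Fin l))), RP hp p u g ∧
      Kac D l r c c0 ∧ (∀ i, rep M.toCoxeterSystem hp.isCartan v (al D l i) = al D l (π i)) ∧
      (∀ i, ct c c0 (π i) = ct c c0 i) ∧ π none ≠ none ∧ v ^ r = 1 ∧
      ∀ (c' : List ℤ) (V : List (List ℤ)), (∀ i, (c i : ℤ) = lv l c' i) →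
        (∀ i j, al D l (π (some i)) j = lv l (V.getD i []) j) →
        St hp p r c' V (g * e * g⁻¹) (g * f * g⁻¹) v ∧ dd p e = l + nr D l r c' := by
  have := finW hp
  obtain ⟨ζ, hζ⟩ := exists_prim (p := p) h.prime h.ne
  obtain ⟨w0, v, c, c0, π, K, h1, hv, h2, h3, h4⟩ := pp_diag (hp := hp) (y := w) h.prime.pos hζ hq.mem h.he
    (BpExc.TorCent.mem_PP.2 ⟨fun a ha => by
      rw [← cX_root hp M.toCoxeterSystem hq.mem ha, ← cX_root hp M.toCoxeterSystem hq.mem (ha.act w),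
        hq.rp.cX_of_comm hq.mem hq.comm],
      fun a ha => hq.pos a ⟨ha.1, fun t ht => ht ▸ ha.2⟩⟩) hw
  obtain ⟨g, hg⟩ := exists_RP hp p w0⁻¹
  have h5 : RP hp p v (g * f * g⁻¹) := by
    have h5 := (hg.mul hq.rp).mul hg.inv
    rwa [inv_inv, ← hv] at h5
  have h6 := h5.pow r
  rw [(h.conj g).hf] at h6
  refine ⟨g, _, v, c, c0, π, hg, K, h2, h3, h4, h6.unique (RP.of_mem (one_mem _)), fun c' V h7 h8 => ?_⟩
  have h9 : ∀ x, cX hp e (rep M.toCoxeterSystem hp.isCartan w0 x) = ζ ^ psi (lv l c') x := fun x => by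
    rw [h1, ← funext h7]
    rfl
  refine ⟨⟨hg.conj_mem hq.mem, ⟨ζ, hζ, fun x => ?_⟩, h5, fun i => (h2 (some i)).trans (funext (h8 i))⟩,
    dd_of_kac hq.mem hζ h9⟩
  have h10 := hg.cX hq.mem (rep M.toCoxeterSystem hp.isCartan w0 x)
  rwa [rep_inv_apply, h9] at h10

end Nf

theorem boxNf : BoxNf := by
  intro D l M hp p _ _ r e f w h hq hw
  obtain ⟨g, u, v, c, c0, π, h1, K, h2, h3, h4, h5, h6⟩ := Nf.core h hq hw
  have h7 := K.sum
  have h8 := mk_perm hp h2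
  rcases h.typ with ⟨rfl, rfl⟩ | ⟨rfl, rfl⟩
  · obtain rfl := (typ_l hp).2.1 rfl
    have h9 : π (π (π none)) = none := by
      refine al_inj hp ?_
      rw [← h2, ← h2, ← h2, ← rep_mul_apply, ← rep_mul_apply, ← pow_three', h5, map_one, Module.End.one_apply]
    have h10 := mk6 _ ((h8 (π none)).trans (h8 none))
    have h11 : π (π none) ≠ none := fun k => h4 (by rwa [k] at h9)
    have h12 : π (π none) ≠ π none := fun k => h4 (π.injective k)
    rw [hrE6, Fin.sum_univ_six] at h7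
    simp only [Matrix.cons_val_zero, Matrix.cons_val_one, Matrix.cons_val] at h7
    have key : ∀ V, V = V6 ∨ V = W6 → (∀ i j, al chevE6 6 (π (some i)) j = lv 6 (V.getD i []) j) →
        c 0 = c0 → c 5 = c0 → ∃ (c : List ℤ) (V : List (List ℤ)), RP hp p u g ∧
          St hp p 3 c V (g * e * g⁻¹) (g * f * g⁻¹) v ∧
          ((∃ k, Row chevE6 3 c V (dd p e) k) ∨ (Row24 chevE6 3 c V ∧ dd p e = 24)) := fun V hV k1 k2 k3 => by
      by_cases k4 : c0 = 0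
      · obtain ⟨k5, k6⟩ := h6 [0, 0, 0, 1, 0, 0] V (fun i => by fin_cases i <;> simp [lv] <;> omega) k1
        exact ⟨_, V, h1, k5, .inr ⟨⟨rfl, rfl, hV, rfl⟩, k6.trans (congrArg (6 + ·) Nf.nr6.2)⟩⟩
      · obtain ⟨k5, k6⟩ := h6 [1, 0, 0, 0, 0, 1] V (fun i => by fin_cases i <;> simp [lv] <;> omega) k1
        exact ⟨_, V, h1, k5, .inl ⟨0, .inr (.inr ⟨rfl, rfl, hV, rfl, k6.trans (congrArg (6 + ·) Nf.nr6.1), rfl⟩)⟩⟩
    refine ⟨g, u, v, ?_⟩
    rcases (mk6 _ (h8 none)).resolve_left h4 with k | k <;> rw [k] at h10 h11 h12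
    · have k1 := (h10.resolve_left h11).resolve_left h12
      have k2 := Nf.rg6.eq h8 (bl_perm hp h2 ok_E6.1) fun i hi => by
        obtain rfl | rfl : i = 0 ∨ i = 1 := by revert i; decide
        exacts [k, k1]
      have k3 := h3 none
      have k4 := h3 (some 0)
      rw [k2] at k3 k4
      exact key V6 (.inl rfl) (fun i j => k2 _ ▸ Nf.rg6.2.2 i j) k3 (k4.trans k3)
    · have k1 := (h10.resolve_left h11).resolve_right h12
      have k2 := Nf.rg6'.eq h8 (bl_perm hp h2 ok_E6.1) fun i hi => by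
        obtain rfl | rfl : i = 0 ∨ i = 1 := by revert i; decide
        exacts [k, k1]
      have k3 := h3 none
      have k4 := h3 (some 5)
      rw [k2] at k3 k4
      exact key W6 (.inr rfl) (fun i j => k2 _ ▸ Nf.rg6'.2.2 i j) (k4.trans k3) k3
  · obtain rfl := (typ_l hp).2.2.1 rfl
    have k2 := Nf.rg7.eq h8 (bl_perm hp h2 ok_E7.1) fun i hi => by
      obtain rfl : i = 0 := by revert i; decide
      exact (mk7 _ (h8 none)).resolve_left h4
    have k3 := h3 none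
    have k4 := h3 (some 0)
    rw [k2] at k3 k4
    replace k3 : c 6 = c0 := k3
    replace k4 : c 5 = c 0 := k4
    rw [hrE7, Fin.sum_univ_seven] at h7
    simp only [Matrix.cons_val_zero, Matrix.cons_val_one, Matrix.cons_val] at h7
    have k1 : ∀ i j, al chevE7 7 (π (some i)) j = lv 7 (V7.getD i []) j := fun i j => k2 _ ▸ Nf.rg7.2.2 i j
    by_cases k5 : c0 = 0
    · obtain ⟨k5, k6⟩ := h6 [0, 1, 0, 0, 0, 0, 0] V7 (fun i => by fin_cases i <;> simp [lv] <;> omega) k1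
      exact ⟨g, u, v, _, V7, h1, k5, .inl ⟨2, .inl ⟨rfl, rfl, rfl, rfl, k6.trans (congrArg (7 + ·) Nf.nr7.1), rfl⟩⟩⟩
    · obtain ⟨k5, k6⟩ := h6 [0, 0, 0, 0, 0, 0, 1] V7 (fun i => by fin_cases i <;> simp [lv] <;> omega) k1
      exact ⟨g, u, v, _, V7, h1, k5, .inl ⟨6, .inr (.inl ⟨rfl, rfl, rfl, rfl, k6.trans (congrArg (7 + ·) Nf.nr7.2), rfl⟩)⟩⟩

end Cfsg.Agent.N2.Ex.CC
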