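import Cfsg.Agent.N2.Ex.CC.Defs
import Cfsg.Agent.N2.Ex.Cb.Ref
import Cfsg.Agent.DL.St.Main
import Cfsg.Agent.DL.Asm.Sys
import Cfsg.Agent.DL.Ex.Split
import Cfsg.Agent.DL.Dat.Sub
import Cfsg.Agent.DL.Dat.Mon
import Cfsg.Agent.H469.Exc.SigFr
import Cfsg.Agent.DS.Ex.TorFrame
import Cfsg.Agent.DS.Nt.Base

/-!
# N2 (S3519), `E₆`, `E₇`: the box `QA` (helper76)
-/

set_option autoImplicit false
set_option linter.unusedSectionVars false

namespace Cfsg.Agent.N2.Ex.CC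

namespace QA

section Dat

open Cfsg.Agent.DL Cfsg.Agent.DL.Asm Cfsg.Agent.DL.Uni Cfsg.Agent.Nodes

variable {p : ℕ} [Fact p.Prime] {k : Type} [Field k] [CharP k p] {Y : Type} [Group Y] {N : Type} [Fintype N]
  [DecidableEq N] {ρ : Y →* GL N k} {F : MulAut Y} {G : Subgroup Y} [IsAlgClosed k]

/-- a rational element of prime order which normalises `G` fixes a maximal torus -/
theorem fix_tor (D : Datum p ρ F G) {r : ℕ} (hr : r.Prime) (hrp : r ≠ p) {f : Y} (h1 : f ^ r = 1) (hF : F f = f)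
    (hG : ∀ y ∈ G, f * y * f⁻¹ ∈ G) {m : Y} (hm : m ∈ G) (hT : Reps.cj f D.T = Reps.cj m D.T) :
    ∃ y ∈ G, Reps.cj f (Reps.cj y D.T) = Reps.cj y D.T := by
  classical
  have := Fact.mk hr
  obtain ⟨St, hSt⟩ := DL.St.stD D
  have k1 : ∀ T ∈ tori D, Reps.cj f T ∈ tori D := by
    rintro T ⟨y, hy, e1, e2⟩
    refine ⟨f * y * f⁻¹ * m, mul_mem (hG y hy) hm, ?_, ?_⟩
    · rw [e1, Reps.cj_mul _ m, ← hT, ← Reps.cj_mul, ← Reps.cj_mul, inv_mul_cancel_right]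
    · conv_rhs => rw [← e2]
      rw [Reps.cj, Reps.cj, Subgroup.map_map, Subgroup.map_map]
      congr 1
      ext x
      simp [hF]
  let φ : Function.End (sys' D).tori := fun T => ⟨Reps.cj f T, (sys' D).mem_tori.2 (k1 _ ((sys' D).mem_tori.1 T.2))⟩
  have k2 : ∀ (n : ℕ) (T : (sys' D).tori), ((φ ^ n) T : Subgroup Y) = Reps.cj (f ^ n) T := fun n => by
    induction n with
    | zero => intro T; rw [pow_zero, pow_zero, Reps.cj_one]; rfl
    | succ n ih => intro T; rw [pow_succ, pow_succ, Reps.cj_mul]; exact ih (φ T)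
  have k3 := Equiv.Perm.card_fixedPoints_modEq (f := φ) (p := r) (n := 1) (funext fun T => Subtype.ext (by
    rw [k2, pow_one, h1, Reps.cj_one]; rfl))
  obtain ⟨T, hT⟩ : Nonempty (Function.fixedPoints φ) := Fintype.card_pos_iff.1 (Nat.pos_of_ne_zero fun h0 => by
    rw [h0, Fintype.card_coe, hSt.card_tori (sys' D), pc, Nat.modEq_zero_iff_dvd] at k3
    exact hrp ((Nat.prime_dvd_prime_iff_eq hr Fact.out).1 (hr.dvd_of_dvd_pow (hr.dvd_of_dvd_pow k3))))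
  obtain ⟨y, hy, e, -⟩ := (sys' D).mem_tori.1 T.2
  exact ⟨y, hy, e ▸ congrArg Subtype.val hT⟩

end Dat

open CoxeterSystem Cfsg Cfsg.Lie Cfsg.Lie.ChevalleyDatum
open Cfsg.Agent.ChevalleyStructure Cfsg.Agent.ChevalleyStructure.CoxeterGeom Cfsg.Agent.Tits.Roots Cfsg.Agent.Nodes
  Cfsg.Agent.Nodes.BNOf Cfsg.Agent.Nodes.RGDChev
open Cfsg.Agent.KFacts.RgdChevCoord Cfsg.Agent.BpExc.Fr Cfsg.Agent.BpExc.LangFr
open Cfsg.Agent.H469.Exc Cfsg.Agent.H316.U6 Cfsg.Agent.H129.TorusChar Cfsg.Agent.DS.Ex Cfsg.Agent.DS.Nt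

variable {D : ChevalleyDatum} {l : ℕ} {M : CoxeterMatrix (Fin l)} (hp : IsType D l M) (p : ℕ) [Fact p.Prime]

theorem fr_frobA (j : ℕ) : Fr M.toCoxeterSystem hp.isCartan (TT D (KK p)) (XX D l (KK p)) (DL.Ex.frobA hp.inList p j)
    (AddEquiv.refl (Fin l → ℤ)) := by
  have h : DL.Ex.frobA (k := KK p) hp.inList p j = CpAut.RgdUntw.fld D (iterateFrobeniusEquiv (KK p) p j) :=
    MulEquiv.ext fun g => Subtype.ext ((DL.Ex.coe_frobA _ _ _ _).trans (H469.Exc.SigFr.coe_fld_frob (fun _ => rfl) g).symm)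
  rw [h]
  exact H469.Exc.SigFr.fr_fld hp _ _

/-- an element of prime order which centralises `Z` normalises a maximal torus of the connected centraliser -/
theorem main {Z : Set (YY D p)} (hfin : Z.Finite) (hZ : Z ⊆ TT D (KK p)) {r : ℕ} (hr : r.Prime) (hrp : r ≠ p) {f : YY D p}
    (h1 : f ^ r = 1) (hc : ∀ t ∈ Z, f * t = t * f) : ∃ y ∈ DZ hp p Z, ∃ w, RP hp p w (y⁻¹ * f * y) := by
  have := finW hp
  obtain ⟨n, hn, h2⟩ := (DL.Ex.amb_of_isFrob (locFin p) one_pos (DL.Ex.isFrob_frobA hp.inList p 1)).exists_lev ![f]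
  have hσ := DL.Ex.isFrob_frobA (k := KK p) hp.inList p n
  have Φ := fr_frobA hp p n
  let D₀ := DL.Ex.chevFr hp (locFin p) hn hσ Φ
  have hS : D₀.Sz Z = Ps hp p Z := Cb.Sz_eq hn hσ Φ hZ
  have hC : D₀.cen Z = DZ hp p Z :=
    (congrArg (fun A => D₀.T ⊔ D₀.S A) hS : D₀.cen Z = D₀.T ⊔ D₀.S (Ps hp p Z)).trans (sup_comm _ _)
  obtain ⟨m, hm, w, -, k, hk, -, e⟩ := form hp hfin hZ hc
  obtain ⟨y, hy, h3⟩ := fix_tor (D₀.sub hZ (fun _ ha => ha) hC) hr hrp h1 (Subtype.ext (DL.mem_lev.1 (h2 0)))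
    (fun y => conj_mem_DZ hfin hZ hc) (Mz_le_DZ hm) (by
      rw [e, Reps.cj_mul]
      congr 1
      ext t
      rw [Reps.mem_cj]
      show k⁻¹ * t * k ∈ TT D (KK p) ↔ t ∈ TT D (KK p)
      exact ⟨fun h => by simpa [mul_assoc] using hk.conj_mem h, fun h => by simpa using hk.inv.conj_mem h⟩)
  refine ⟨y, hy, Tor.rp_of_norm fun t => ?_⟩
  have h4 : Reps.cj (y⁻¹ * f * y) (TT D (KK p)) = TT D (KK p) := by
    rw [Reps.cj_mul, Reps.cj_mul]
    exact (congrArg (Reps.cj y⁻¹) h3).trans (by rw [← Reps.cj_mul, inv_mul_cancel, Reps.cj_one]; rfl)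
  conv_lhs => rw [← h4]
  exact Reps.conj_mem_cj

end QA

/-- [QA] -/
theorem boxQA : BoxQA := fun _ _ _ hp p _ _ _ e _ h he => by
  have hZ := Set.singleton_subset_iff.2 he
  obtain ⟨y, hy, w, hw⟩ := QA.main hp p (Set.finite_singleton e) hZ h.prime h.ne h.hf fun t ht => ht ▸ h.comm
  exact ⟨y⁻¹, DS.Nt.DZ_comm hZ (inv_mem hy) rfl, w, by rwa [inv_inv]⟩

end Cfsg.Agent.N2.Ex.CC
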