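import Cfsg.Agent.N2.Ex.CC.Defs
import Cfsg.Agent.Cam.Ex.Root

/-!
# N2 (S3519), `E₇`: a better torus for the pair, `r = 2` (helper47)

`f` acts on the `SL₂` of the root `a` as an inner automorphism of order at most two, which is diagonalised there.
-/

set_option autoImplicit false
set_option linter.unusedSectionVars false
set_option maxHeartbeats 400000

namespace Cfsg.Agent.N2.Ex.CC

open CoxeterSystem Cfsg Cfsg.Lie Cfsg.Lie.ChevalleyDatum
open Cfsg.Agent.ChevalleyStructure Cfsg.Agent.ChevalleyStructure.CoxeterGeom Cfsg.Agent.Tits.Roots Cfsg.Agent.Nodes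
  Cfsg.Agent.Nodes.BNOf Cfsg.Agent.Nodes.RGDChev Cfsg.Agent.Nodes.Coroot
open Cfsg.Agent.KFacts.RgdChevCoord Cfsg.Agent.BpExc.Fr Cfsg.Agent.BpExc.LangFr
open Cfsg.Agent.H469.Exc Cfsg.Agent.H316.U6 Cfsg.Agent.H129.TorusChar Cfsg.Agent.DS.Ex Cfsg.Agent.DS.Nt
open Cfsg.Agent.DS.Ex.Tor (RT FR MS)
open Cfsg.Agent.N2.Ex.Al (LL cp ac GW Ch)
open Cfsg.Agent.ChevalleyStructure.SL2Hom (up lo)
open Cfsg.Agent.Nodes.RGDFoldSL (hS)
open Cfsg.Agent.Cam.Ex.S2

namespace Q2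

/-- an element of `SL₂` with central square is diagonalisable -/
theorem diag {k : Type*} [Field k] [IsAlgClosed k] (h2 : (2 : k) ≠ 0) {j : SL k} (h : j * j ∈ Subgroup.center (SL k)) :
    ∃ (g : SL k) (d : k), d ≠ 0 ∧ g * j = hS d * g := by
  obtain ⟨h01, h10, -⟩ := mem_center_iff'.1 h
  have hd := det_e j
  rw [mul_e] at h01 h10
  by_cases ht : j.1 0 0 + j.1 1 1 = 0
  · have h11 : j.1 1 1 = -j.1 0 0 := eq_neg_of_add_eq_zero_right ht
    rw [h11] at hd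
    obtain ⟨t, e⟩ : ∃ t, j.1 1 0 * t ^ 2 + 2 * j.1 0 0 * t - j.1 0 1 = 0 := by
      by_cases hc : j.1 1 0 = 0
      · have h0 : j.1 0 0 ≠ 0 := fun h0 => by
          rw [hc, h0] at hd
          simp at hd
        refine ⟨j.1 0 1 / (2 * j.1 0 0), ?_⟩
        rw [hc]
        field_simp
        ring
      · obtain ⟨i, hi⟩ := IsAlgClosed.exists_pow_nat_eq (-1 : k) two_pos
        refine ⟨(i - j.1 0 0) / j.1 1 0, ?_⟩
        field_simp
        linear_combination hi + hd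
    obtain ⟨d, hdd⟩ : ∃ d, d = j.1 0 0 + t * j.1 1 0 := ⟨_, rfl⟩
    have hsq : d * -d = 1 := by
      rw [hdd]
      linear_combination hd - j.1 1 0 * e
    have h0 : d ≠ 0 := left_ne_zero_of_mul_eq_one hsq
    obtain ⟨s, hs⟩ : ∃ s, 2 * s * d + j.1 1 0 = 0 := ⟨-j.1 1 0 / (2 * d), by field_simp; ring⟩
    refine ⟨lo s * up t, d, h0, ?_⟩
    apply ext4 <;> simp only [mul_e, up00, up01, up10, up11, lo00, lo01, lo10, lo11, hS00 h0, hS01 h0, hS10 h0, hS11 h0,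
      inv_eq_of_mul_eq_one_right hsq, h11]
    · linear_combination -hdd
    · linear_combination -e - t * hdd
    · linear_combination hs - s * hdd
    · linear_combination t * hs - s * e + (1 - s * t) * hdd
  · have hb : j.1 0 1 = 0 := (mul_eq_zero.1 (by linear_combination h01 : j.1 0 1 * (j.1 0 0 + j.1 1 1) = 0)).resolve_right ht
    have hc : j.1 1 0 = 0 := (mul_eq_zero.1 (by linear_combination h10 : j.1 1 0 * (j.1 0 0 + j.1 1 1) = 0)).resolve_right ht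
    rw [hb, zero_mul, sub_zero] at hd
    have h0 : j.1 0 0 ≠ 0 := left_ne_zero_of_mul_eq_one hd
    refine ⟨1, j.1 0 0, h0, ?_⟩
    rw [one_mul, mul_one]
    exact ext4 (hS00 h0).symm (hb.trans (hS01 h0).symm) (hc.trans (hS10 h0).symm)
      ((inv_eq_of_mul_eq_one_right hd).symm.trans (hS11 h0).symm)

variable {D : ChevalleyDatum} {l : ℕ} {M : CoxeterMatrix (Fin l)} {hp : IsType D l M} {p : ℕ} [Fact p.Prime]

/-- the root `SL₂` -/
theorem exists_sl {a : LL l} (ha : RT hp a) : ∃ ψ : SL (KK p) →* YY D p, (∀ t, ψ (up t) = xc hp a t) ∧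
    (∀ t, ψ (lo t) = xc hp (-a) t) ∧ CK ψ ∧ (∀ d, d ≠ 0 → ψ (hS d) ∈ TT D (KK p)) ∧
    (∀ t ∈ TT D (KK p), cX hp t a = 1 → Cz ψ t) ∧
    ∃ (m : SL (KK p)) (s : M.Group), RP hp p s (ψ m) ∧ ∀ x, ac hp s x = x - cp hp x a • a := by
  have := finW hp
  have h3 := ha.neg
  obtain ⟨v, i, e⟩ := id ha
  obtain ⟨m, hm, h4⟩ := Tor.exists_rp_MS (hp := hp) (p := p) (S := {a, -a}) (by rintro _ (rfl | rfl); exacts [ha, h3])
    (by rintro _ (rfl | rfl); exacts [.inr rfl, .inl (neg_neg _)]) (Subgroup.subset_closure ⟨v, i, .inl e.symm, rfl⟩)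
  obtain ⟨m₀, rfl⟩ : m ∈ (Cam.Ex.sl (hp := hp) p ha).range := by
    rw [Cam.Ex.sl_range (hp := hp) ha]
    exact hm
  exact ⟨Cam.Ex.sl (hp := hp) p ha, Cam.Ex.sl_up (hp := hp) ha, Cam.Ex.sl_lo (hp := hp) ha, Cam.Ex.sl_ck (hp := hp) ha,
    fun d hd => Cam.Ex.sl_hS_mem (hp := hp) ha hd,
    fun t ht h => (Cam.Ex.cz_T (hp := hp) ha ht).2 ((Cam.Ex.ch_eq_cX (hp := hp) ha ht).trans h),
    m₀, _, h4, fun x => by rw [e]; exact rep_rfl'_eq _ _ v i x⟩

theorem nw_two (w : M.Group) (x : LL l) : Nw hp 2 w x = x + ac hp w x := by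
  show ∑ i ∈ Finset.range 2, ac hp (w ^ i) x = _
  rw [Finset.sum_range_succ, Finset.sum_range_one, pow_zero, pow_one, repAut_apply, map_one, Module.End.one_apply]

end Q2

open Q2 in
theorem boxQB2 : BoxQB 2 := by
  intro _ D l M hp p _ _ e f w a P he hw ha hN
  have := finW hp
  obtain ⟨hr, h1⟩ := (mem_Ps (Set.singleton_subset_iff.2 he)).1 ha
  have h2 : (2 : KK p) ≠ 0 := fun h => P.ne
    ((Nat.prime_dvd_prime_iff_eq Fact.out Nat.prime_two).1 ((CharP.cast_eq_zero_iff (KK p) p 2).1 (by exact_mod_cast h))).symm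
  obtain ⟨ψ, hu, hl, hck, hT, hz, m, s, hs, hsx⟩ := exists_sl (hp := hp) (p := p) hr
  have hwa : ac hp w a = -a := eq_neg_of_add_eq_zero_right ((nw_two w a).symm.trans hN)
  have hsa : ac hp s a = -a := by
    rw [hsx, show cp hp a a = 2 from cpr_self _ _ hr, two_smul]
    abel
  have hw' : ∀ x, ac hp s (ac hp (s⁻¹ * w) x) = ac hp w x := fun x => by
    rw [repAut_apply, repAut_apply, repAut_apply, rep_mul_apply, rep_apply_inv]
  have hfix : ac hp (s⁻¹ * w) a = a := (ac hp s).injective (by rw [hw', hwa, hsa])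
  have hk : RP hp p (s⁻¹ * w) ((ψ m)⁻¹ * f) := hs.inv.mul hw
  obtain ⟨μ, hμ, k1⟩ := Cam.Ex.rp_xc hk hr
  obtain ⟨ν, -, k2⟩ := Cam.Ex.rp_xc hk hr.neg
  have hfix1 : Cam.Ex.wa hp (s⁻¹ * w) a = a := hfix
  rw [Cam.Ex.wa_neg] at k2
  rw [hfix1] at k1 k2
  obtain ⟨c, hc, -, k3⟩ := hck.inn_of_lin (c := (ψ m)⁻¹ * f) (ν := ν) hμ
    (fun t => by rw [hu, hu, k1]) (fun t => by rw [hl, hl, k2])
  have k4 : JL.Inn ψ f (m * hS c) := by
    have := (JL.Inn.self (ψ := ψ) m).mul k3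
    rwa [mul_inv_cancel_left] at this
  have k5 : m * hS c * (m * hS c) ∈ Subgroup.center (SL (KK p)) := by
    refine hck.center_of_cz (k4.mul k4) fun g => ?_
    rw [← sq, P.hf, one_mul, mul_one]
  obtain ⟨g, d, hd, k6⟩ := diag h2 k5
  have k7 : Cz ψ ((ψ (m * hS c))⁻¹ * f) :=
    cz_of_inn ((JL.Inn.self _).inv.mul k4) (by rw [inv_mul_cancel]; exact one_mem _)
  have k8 : Cz ψ e := hz e he (h1 e rfl)
  refine ⟨ψ g, s⁻¹ * w, (k8 g).symm, ?_, hfix, fun x hx => ?_⟩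
  · have k9 := (RP.of_mem (hp := hp) (mul_mem (hT d hd) (inv_mem (hT c hc)))).mul hk
    rw [one_mul] at k9
    have k10 := congrArg ψ k6
    have k11 := k7 g
    rw [map_mul, map_mul, map_mul] at k10
    rw [map_mul] at k11
    have k12 : ψ g * f * (ψ g)⁻¹ =
        ψ (hS d) * (ψ (hS c))⁻¹ * ((ψ m)⁻¹ * f) := by
      generalize ψ g = G at k10 k11
      generalize ψ m = N at k10 k11
      generalize ψ (hS c) = C at k10 k11
      generalize ψ (hS d) = H at k10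
      calc G * f * G⁻¹ = G * (N * C) * ((N * C)⁻¹ * f) * G⁻¹ := by group
        _ = H * (G * ((N * C)⁻¹ * f)) * G⁻¹ := by rw [k10, mul_assoc H]
        _ = _ := by rw [← k11]; group
    rwa [k12]
  · rw [nw_two] at hx ⊢
    have hx' : ac hp (s⁻¹ * w) x = -x := eq_neg_of_add_eq_zero_right hx
    have k13 : cp hp x a = 0 := by
      have h3 : cp hp (ac hp (s⁻¹ * w) x) (ac hp (s⁻¹ * w) a) = cp hp x a := cpr_rep _ _ _ x hr
      rw [hx', hfix, show cp hp (-x) a = -cp hp x a from cpr_neg _ _ x hr] at h3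
      omega
    rw [← hw', hx', map_neg, hsx, k13, zero_smul, sub_zero, add_neg_cancel]

end Cfsg.Agent.N2.Ex.CC
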