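import Cfsg.Agent.N2.Ex.CC.Defs
import Cfsg.Agent.DS.Ex.TorCE

/-!
# N2 (S3519), `BoxCC`: a better torus, `r = 3` (helper90)
-/

set_option autoImplicit false
set_option linter.unusedSectionVars false
set_option maxHeartbeats 400000

namespace Cfsg.Agent.N2.Ex.CC

open CoxeterSystem Cfsg Cfsg.Lie Cfsg.Lie.ChevalleyDatum
open Cfsg.Agent.ChevalleyStructure Cfsg.Agent.ChevalleyStructure.CoxeterGeom Cfsg.Agent.Tits.Roots Cfsg.Agent.Nodes
  Cfsg.Agent.Nodes.BNOf Cfsg.Agent.Nodes.RGDChev Cfsg.Agent.Nodes.Coroot Cfsg.Agent.Nodes.Reps Cfsg.Agent.Tits.Core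
open Cfsg.Agent.KFacts.RgdChevCoord Cfsg.Agent.BpExc.Fr Cfsg.Agent.BpExc.LangFr
open Cfsg.Agent.H469.Exc Cfsg.Agent.H316.U6 Cfsg.Agent.H129.TorusChar Cfsg.Agent.DS.Ex Cfsg.Agent.DS.Nt
open Cfsg.Agent.DS.Ex.Tor (RT FR MS)
open Cfsg.Agent.N2.Ex.Al (LL cp ac GW Ch)

namespace Q3

variable {D : ChevalleyDatum} {l : ℕ} {M : CoxeterMatrix (Fin l)} {hp : IsType D l M} {p : ℕ} [Fact p.Prime]
  {a b : LL l} {u w : M.Group} {k n t : YY D p} {Z : Set (YY D p)} {r : ℕ}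

theorem fin_ord (hp : IsType D l M) (y : YY D p) : IsOfFinOrder y := by
  obtain ⟨E, hE⟩ := BpExc.TowChev.exists_level hp (locFin p) y
  obtain ⟨y', rfl⟩ := hE E le_rfl
  have : Finite ↥(D.group ↥E.1) := BpExc.TowChev.finite_group
  exact (GpExc.Field.emb hp.inList E.1.subtype).isOfFinOrder (isOfFinOrder_of_finite y')

theorem ac_mul (u w : M.Group) (x : LL l) : ac hp (u * w) x = ac hp u (ac hp w x) := rep_mul_apply _ _ _ _ _

theorem ac_one (x : LL l) : ac hp 1 x = x := by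
  rw [repAut_apply, map_one, Module.End.one_apply]

theorem t_x (ht : t ∈ TT D (KK p)) (ha : RT hp a) (s : KK p) : t * xc hp a s * t⁻¹ = xc hp a (cX hp t a * s) := by
  rw [cX_root hp _ ht ha]
  exact ((coW hp p).coord a ha).act t (by rw [TLe hp p]; exact ht) s

theorem rp_x (hg : RP hp p w k) (ha : RT hp a) :
    ∃ c : KK p, c ≠ 0 ∧ ∀ s, k * xc hp a s * k⁻¹ = xc hp (ac hp w a) (c * s) := by
  have C := coW hp p
  have key : ∀ ω : List (Fin l), ∃ k, RP hp p (M.toCoxeterSystem.wordProd ω) k ∧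
      ∃ c : KK p, c ≠ 0 ∧ ∀ s, k * xc hp a s * k⁻¹ = xc hp (ac hp (M.toCoxeterSystem.wordProd ω) a) (c * s) := by
    intro ω
    induction ω with
    | nil =>
      refine ⟨1, by rw [wordProd_nil]; exact RP.of_mem (one_mem _), 1, one_ne_zero, fun s => ?_⟩
      rw [wordProd_nil, ac_one, one_mul, one_mul, inv_one, mul_one]
    | cons i ω ih =>
      obtain ⟨k, hk, c, hc, e⟩ := ih
      obtain ⟨c', hc', e'⟩ := C.nact i _ (ha.act (M.toCoxeterSystem.wordProd ω))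
      refine ⟨nc hp (KK p) i * k, ?_, c' * c, mul_ne_zero hc' hc, fun s => ?_⟩
      · rw [wordProd_cons]; exact RP.mul (rp_simple _ (tw hp p).nsys i) hk
      · have h1 : nc hp (KK p) i * k * xc hp a s * (nc hp (KK p) i * k)⁻¹ =
          nc hp (KK p) i * (k * xc hp a s * k⁻¹) * (nc hp (KK p) i)⁻¹ := by group
        rw [h1, e, wordProd_cons, ac_mul, mul_assoc c']
        exact e' _
  obtain ⟨ω, rfl⟩ := M.toCoxeterSystem.wordProd_surjective w
  obtain ⟨g, hk, c, hc, e⟩ := key ω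
  have ht : g⁻¹ * k ∈ TT D (KK p) := RP.mem_T (hp := hp) (by simpa using hk.inv.mul hg)
  refine ⟨c * cX hp (g⁻¹ * k) a, mul_ne_zero hc ((isMC_cX hp ht).ne_zero a), fun s => ?_⟩
  have h1 : k * xc hp a s * k⁻¹ = g * ((g⁻¹ * k) * xc hp a s * (g⁻¹ * k)⁻¹) * g⁻¹ := by group
  rw [h1, t_x ht ha, e, mul_assoc]

theorem exists_na (p : ℕ) [Fact p.Prime] (ha : RT hp a) :
    ∃ (u : M.Group) (n : YY D p), n ∈ MS D p {a, -a} ∧ RP hp p u n ∧ ∀ x, ac hp u x = x - cp hp x a • a := by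
  have := finW hp
  obtain ⟨v, i, e⟩ := id ha
  obtain ⟨n, h1, h2⟩ := Tor.exists_rp_MS (hp := hp) (p := p) (S := {a, -a}) (by rintro _ (rfl | rfl); exacts [ha, ha.neg])
    (by rintro _ (rfl | rfl); exacts [.inr rfl, .inl (neg_neg _)]) (v := SubComb.rfl' M.toCoxeterSystem v i)
    (Subgroup.subset_closure ⟨v, i, .inl e.symm, rfl⟩)
  exact ⟨_, n, h1, h2, fun x => by rw [e]; exact rep_rfl'_eq _ _ v i x⟩

theorem cx_MS (h1 : CX p l k a) (h2 : CX p l k (-a)) (hn : n ∈ MS D p {a, -a}) : k * n = n * k := by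
  have h : MS D p {a, -a} ≤ Subgroup.centralizer {k} := iSup_le (by
    rintro ⟨_, rfl | rfl⟩ y hy
    exacts [Subgroup.mem_centralizer_singleton_iff.2 (h1 y hy).symm,
      Subgroup.mem_centralizer_singleton_iff.2 (h2 y hy).symm])
  exact (Subgroup.mem_centralizer_singleton_iff.1 (h hn)).symm

theorem cx_rep (hu : RP hp p u n) (h : k * n = n * k) (hb : RT hp b) (hk : CX p l k b) : CX p l k (ac hp u b) :=
  fun y hy => by
    have h1 : n⁻¹ * y * n ∈ XX D l (KK p) b := Reps.mem_cj.1 (by rw [hu.cj_X hb]; exact hy)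
    calc k * y = k * n * (n⁻¹ * y * n) * n⁻¹ := by group
      _ = n * (k * (n⁻¹ * y * n)) * n⁻¹ := by rw [h]; group
      _ = y * (n * k) * n⁻¹ := by rw [hk _ h1]; group
      _ = y * k := by rw [← h]; group

variable (hp) in
theorem exists_Z (hD : Typ D) (hr : r.Prime) (hrp : r ≠ p) (π : LL l →+ LL l) : ∃ Z : Set (YY D p), Z.Finite ∧
    Z ⊆ TT D (KK p) ∧ (∀ t ∈ Z, ∃ j : ℕ, t ^ r ^ j = 1) ∧ ∀ c, c ∈ Ps hp p Z ↔ RT hp c ∧ π c = 0 := by
  have := finW hp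
  have h1 : ∀ c : LL l, ∃ t ∈ TT D (KK p), (∃ j : ℕ, t ^ r ^ j = 1) ∧ (∀ x, π x = 0 → cX hp t x = 1) ∧
      (cX hp t c = 1 → π c = 0) := fun c => by
    by_cases h : π c = 0
    · exact ⟨1, one_mem _, ⟨0, one_pow _⟩, fun x _ => cX_one hp x, fun _ => h⟩
    obtain ⟨i, hi⟩ := Function.ne_iff.1 h
    obtain ⟨j, hj⟩ := exists_not_dvd hr (Int.natAbs_ne_zero.2 hi)
    have : NeZero ((r ^ (j + 1) : ℕ) : KK p) := ⟨by
      rw [Nat.cast_pow]
      exact pow_ne_zero _ fun h0 => hrp ((Nat.prime_dvd_prime_iff_eq Fact.out hr).1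
        ((CharP.cast_eq_zero_iff (KK p) p r).1 h0)).symm⟩
    have : NeZero (r ^ (j + 1)) := ⟨pow_ne_zero _ hr.ne_zero⟩
    obtain ⟨ζ, hζ⟩ := HasEnoughRootsOfUnity.exists_primitiveRoot (KK p) (r ^ (j + 1))
    obtain ⟨t, ht, e⟩ := exists_tor_zpow hp hD (hζ.ne_zero (NeZero.ne _)) ((Pi.evalAddMonoidHom _ i).comp π)
    refine ⟨t, ht, ⟨j + 1, pow_eq_one_of_cX (hp := hp) ht fun x => ?_⟩, fun x hx => ?_, fun h2 => (hj ?_).elim⟩
    · rw [e, ← zpow_natCast, ← zpow_mul, mul_comm, zpow_mul, zpow_natCast, hζ.pow_eq_one, one_zpow]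
    · rw [e, AddMonoidHom.comp_apply, hx, map_zero, zpow_zero]
    · rw [e, hζ.zpow_eq_one_iff_dvd] at h2
      exact Int.natCast_dvd.1 h2
  choose τ h2 h3 h4 h5 using h1
  have hZ : Set.range (fun x : M.Group × Fin l => τ (ac hp x.1 (sr x.2))) ⊆ TT D (KK p) := by
    rintro _ ⟨x, rfl⟩
    exact h2 _
  refine ⟨_, Set.finite_range _, hZ, by rintro _ ⟨x, rfl⟩; exact h3 _, fun c => (mem_Ps hZ).trans
    (and_congr_right fun ⟨v, i, e⟩ => ⟨fun h => h5 c (h _ ⟨(v, i), by rw [e]; rfl⟩), ?_⟩)⟩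
  rintro h _ ⟨x, rfl⟩
  exact h4 _ c h

theorem conj_T (hr : r.Prime) (hrp : r ≠ p) (hfin : Z.Finite) (hZ : Z ⊆ TT D (KK p))
    (hZr : ∀ t ∈ Z, ∃ j : ℕ, t ^ r ^ j = 1) (hn : n ∈ DZ hp p Z) {j : ℕ} (hj : n ^ r ^ j = 1) :
    ∃ m ∈ Mz hp p Z, m * n * m⁻¹ ∈ TT D (KK p) := by
  obtain ⟨g, hg⟩ := toral_step hr hrp hfin hZ hn hj (Q := Subgroup.closure (insert n Z))
    (isPGroup_of_comm (by
      rintro x (rfl | hx) y (rfl | hy)
      exacts [rfl, DZ_comm hZ hn hy, (DZ_comm hZ hn hx).symm, DZ_comm hZ (T_le_DZ (hp := hp) (hZ hx)) hy]) (by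
      rintro x (rfl | hx)
      exacts [⟨j, hj⟩, hZr x hx])) le_rfl
  have := hfin.to_subtype
  obtain ⟨m, h1, v, k, h2, -, e⟩ := form₂ hp (s := fun z : Z => g * z.1 * g⁻¹) (t := fun z : Z => z.1)
    (fun z => hg _ (Subgroup.subset_closure (.inr z.2))) (fun z => hZ z.2) (c := g⁻¹) fun z => by group
  rw [Subtype.range_coe] at h1
  refine ⟨m⁻¹, inv_mem h1, ?_⟩
  have h3 := h2.conj_mem (hg n (Subgroup.subset_closure (.inl rfl)))
  rwa [show k * (g * n * g⁻¹) * k⁻¹ = m⁻¹ * n * m⁻¹⁻¹ by rw [inv_eq_iff_eq_inv.1 e]; group] at h3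

theorem conj_T' (hr : r.Prime) (hrp : r ≠ p) (hfin : Z.Finite) (hZ : Z ⊆ TT D (KK p))
    (hZr : ∀ t ∈ Z, ∃ j : ℕ, t ^ r ^ j = 1) (hn : n ∈ DZ hp p Z) (h1 : n ^ r ∈ TT D (KK p))
    (h2 : ∀ m ∈ Mz hp p Z, n ^ r * m = m * n ^ r) : ∃ m ∈ Mz hp p Z, m * n * m⁻¹ ∈ TT D (KK p) := by
  obtain ⟨j, s, hs, e⟩ := Nat.exists_eq_pow_mul_and_not_dvd (fin_ord hp n).orderOf_pos.ne' r hr.ne_one
  obtain ⟨m, hm, h3⟩ := conj_T hr hrp hfin hZ hZr (pow_mem hn s) (j := j) (by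
    rw [← pow_mul, mul_comm, ← e, pow_orderOf_eq_one])
  obtain ⟨α, β, h4⟩ : IsCoprime (s : ℤ) (r : ℤ) := Nat.isCoprime_iff_coprime.2 ((hr.coprime_iff_not_dvd.2 hs).symm)
  refine ⟨m, hm, ?_⟩
  have h5 : n = (n ^ s) ^ α * (n ^ r) ^ β := by
    rw [← zpow_natCast, ← zpow_natCast, ← zpow_mul, ← zpow_mul, ← zpow_add, mul_comm _ α, mul_comm _ β, h4, zpow_one]
  have h6 : m * n * m⁻¹ = (m * n ^ s * m⁻¹) ^ α * (m * n ^ r * m⁻¹) ^ β := by
    rw [conj_zpow, conj_zpow, conj_mul, ← h5]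
  rw [h6, ← h2 m hm, mul_inv_cancel_right]
  exact mul_mem (zpow_mem h3 α) (zpow_mem h1 β)

theorem nw3 (w : M.Group) (x : LL l) : Nw hp 3 w x = x + ac hp w x + ac hp w (ac hp w x) := by
  rw [Nw, Finset.sum_range_succ, Finset.sum_range_succ, Finset.sum_range_one, pow_zero, pow_one, sq, ac_one, ac_mul]

theorem six {x y : ℤ} (h : 6 = (2 * x + y) * x + (x + 2 * y) * y) : x = 2 ∧ y = -1 ∨ x = -2 ∧ y = 1 ∨ x = -1 ∧ y = 2 ∨
    x = 1 ∧ y = -2 ∨ x = 1 ∧ y = 1 ∨ x = -1 ∧ y = -1 := by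
  have h1 : -3 < x := by nlinarith [sq_nonneg (x + 2 * y)]
  have h2 : x < 3 := by nlinarith [sq_nonneg (x + 2 * y)]
  have h3 : -3 < y := by nlinarith [sq_nonneg (2 * x + y)]
  have h4 : y < 3 := by nlinarith [sq_nonneg (2 * x + y)]
  interval_cases x <;> interval_cases y <;> simp_all

theorem three_cancel {x y : LL l} (h : (3 : ℤ) • x = (3 : ℤ) • y) : x = y := smul_right_injective _ (by decide) h

end Q3

open Q3

/-- **[QB]**, `r = 3` -/
theorem boxQB3 : BoxQB 3 := by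
  intro hN D l M hp p _ hD e f w a P he hf ha h0
  have := finW hp
  obtain ⟨h4, h6, -⟩ := TorCE.typE_facts hp (P.typ.elim (fun h => .inl h.1) fun h => .inr (.inl h.1))
  have hE : ({e} : Set (YY D p)) ⊆ TT D (KK p) := Set.singleton_subset_iff.2 he
  have w3 : ∀ x, ac hp w (ac hp w (ac hp w x)) = x := fun x => by
    have h := (hf.pow 3).unique (P.hf ▸ RP.of_mem (one_mem _))
    rw [← ac_mul, ← ac_mul, mul_assoc, ← pow_three, h, ac_one]
  obtain ⟨ra, ea⟩ := (mem_Ps hE).1 ha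
  replace ea := ea e rfl
  have rb : RT hp (ac hp w a) := ra.act w
  have eb : cX hp e (ac hp w a) = 1 := (hf.cX_of_comm he P.comm a).trans ea
  rw [nw3] at h0
  obtain ⟨b, hb⟩ : ∃ b, ac hp w a = b := ⟨_, rfl⟩
  rw [hb] at rb eb h0
  have hb2 : ac hp w b = -a - b := by rw [eq_sub_iff_add_eq, eq_neg_iff_add_eq_zero, ← h0]; abel
  have ad : ∀ {c} (_ : RT hp c) (x y : LL l), cp hp (x + y) c = cp hp x c + cp hp y c := fun hc x y => cpr_add _ _ x y hc
  have sm : ∀ {c} (_ : RT hp c) (m : ℤ) (x : LL l), cp hp (m • x) c = m * cp hp x c := fun hc m x => cpr_smul _ _ m x hc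
  have ng : ∀ {c} (_ : RT hp c) (x : LL l), cp hp (-x) c = -cp hp x c := fun hc x => cpr_neg _ _ x hc
  have sy : ∀ {c d} (_ : RT hp c) (_ : RT hp d), cp hp c d = cp hp d c := fun hc hd => SimplyLaced.cpr_symm _ _ h4 h6 hc hd
  have aa : cp hp a a = 2 := cpr_self _ _ ra
  have bb : cp hp b b = 2 := cpr_self _ _ rb
  have iv : ∀ {c} (_ : RT hp c) (v : M.Group) (x : LL l), cp hp (ac hp v x) (ac hp v c) = cp hp x c :=
    fun hc v x => cpr_rep _ _ v x hc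
  have ba : cp hp b a = -1 := by
    have h1 := iv ra w b
    rw [hb, hb2, sub_eq_add_neg, ad rb, ng rb, ng rb, bb, sy ra rb] at h1
    omega
  have ab : cp hp a b = -1 := (sy ra rb).trans ba
  obtain ⟨ua, na, a1, a2, a3⟩ := exists_na (hp := hp) p ra
  obtain ⟨ub, nb, b1, b2, b3⟩ := exists_na (hp := hp) p rb
  have u1 : ∀ x, ∃ i j : ℤ, ac hp (ua * ub) x = x + i • a + j • b := fun x =>
    ⟨-cp hp (x - cp hp x b • b) a, -cp hp x b, by rw [ac_mul, b3, a3]; module⟩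
  have a4 : ac hp ua a = -a := by rw [a3, aa]; module
  have a5 : ac hp ua b = a + b := by rw [a3, ba]; module
  have u2 : ac hp (ua * ub) a = b := by rw [ac_mul, b3, ab, map_sub, map_zsmul, a4, a5]; module
  have u3 : ac hp (ua * ub) b = -a - b := by rw [ac_mul, b3, bb, map_sub, map_zsmul, a5]; module
  have n0 := a2.mul b2
  generalize ua * ub = u at u1 u2 u3 n0
  have u5 : ∀ x, ac hp (u ^ 3) x = x := fun x => by
    obtain ⟨s, t, h⟩ := u1 x
    rw [pow_three, ac_mul (hp := hp), ac_mul (hp := hp), h]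
    simp only [h, map_add, map_zsmul, map_sub, map_neg, u2, u3]
    module
  have u4 : u ^ 3 = 1 := eq_one_of_fix _ hp.isCartan _ fun i => u5 _
  have w0 : ∀ x, ac hp u (ac hp (u⁻¹ * w) x) = ac hp w x := fun x => by rw [← ac_mul, mul_inv_cancel_left]
  have w1 : ac hp (u⁻¹ * w) a = a := (ac hp u).injective (by rw [w0, hb, u2])
  have w2 : ac hp (u⁻¹ * w) b = b := (ac hp u).injective (by rw [w0, hb2, u3])
  have z0 := n0.inv.mul hf
  generalize u⁻¹ * w = w' at w0 w1 w2 z0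
  obtain ⟨ca, ca0, c1⟩ := rp_x z0 ra
  obtain ⟨cb, cb0, c2⟩ := rp_x z0 rb
  rw [w1] at c1
  rw [w2] at c2
  obtain ⟨α, hα⟩ := IsAlgClosed.exists_pow_nat_eq (ca ^ 2 * cb) (n := 3) (by decide)
  have α0 : α ≠ 0 := fun h => mul_ne_zero (pow_ne_zero 2 ca0) cb0 (by rw [← hα, h]; simp)
  obtain ⟨ta, ta1, ta2⟩ := exists_tor_zpow hp hD α0 (ell _ hp.isCartan ra)
  obtain ⟨tb, tb1, tb2⟩ := exists_tor_zpow hp hD (div_ne_zero (pow_ne_zero 2 α0) ca0) (ell _ hp.isCartan rb)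
  have t1 := mul_mem ta1 tb1
  have t2 : ∀ x, cX hp (ta * tb) x = α ^ cp hp x a * (α ^ 2 / ca) ^ cp hp x b := fun x => by
    rw [cX_mul hp ta1 tb1, ta2, tb2]; rfl
  generalize ta * tb = t at t1 t2
  have t3 : cX hp t a = ca := by
    rw [t2, aa, ab, zpow_neg_one, zpow_ofNat]
    field_simp
  have t4 : cX hp t b = cb := by
    rw [t2, bb, ba, zpow_neg_one, zpow_ofNat]
    field_simp
    linear_combination hα
  have z1 : RP hp p w' (t⁻¹ * ((na * nb)⁻¹ * f)) := one_mul w' ▸ (RP.of_mem (inv_mem t1)).mul z0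
  have z2 : ∀ c cc, RT hp c → cX hp t c = cc →
      (∀ s, (na * nb)⁻¹ * f * xc hp c s * ((na * nb)⁻¹ * f)⁻¹ = xc hp c (cc * s)) →
      CX p l (t⁻¹ * ((na * nb)⁻¹ * f)) c := fun c cc rc e1 e2 y hy => by
    obtain ⟨s, rfl⟩ := (mem_X (hp := hp) rc).1 hy
    have h1 := (e2 s).trans (e1 ▸ t_x t1 rc s).symm
    calc _ = t⁻¹ * ((na * nb)⁻¹ * f * xc hp c s * ((na * nb)⁻¹ * f)⁻¹) * ((na * nb)⁻¹ * f) := by group
      _ = _ := by rw [h1]; group
  have za := z2 a ca ra t3 c1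
  have zb := z2 b cb rb t4 c2
  have hfz : f = na * nb * t * (t⁻¹ * ((na * nb)⁻¹ * f)) := by group
  generalize t⁻¹ * ((na * nb)⁻¹ * f) = z at z1 za zb hfz
  have za' := hN D l M hp p hD w' z a ra z1 za
  have zb' := hN D l M hp p hD w' z b rb z1 zb
  have rc : RT hp (a + b) := a5 ▸ rb.act ua
  have zc : CX p l z (a + b) := a5 ▸ cx_rep a2 (cx_MS za za' a1) rb zb
  have zc' := hN D l M hp p hD w' z _ rc z1 zc
  let π : LL l →+ LL l := AddMonoidHom.mk'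
    (fun x => (3 : ℤ) • x - (2 * cp hp x a + cp hp x b) • a - (cp hp x a + 2 * cp hp x b) • b) fun x y => by
      simp only [ad ra, ad rb]
      module
  have π0 : ∀ x, π x = (3 : ℤ) • x - (2 * cp hp x a + cp hp x b) • a - (cp hp x a + 2 * cp hp x b) • b := fun _ => rfl
  have πa : π a = 0 := by rw [π0, aa, ab]; module
  have πb : π b = 0 := by rw [π0, bb, ba]; module
  obtain ⟨Z, Z1, Z2, Z3, Z4⟩ := exists_Z hp hD Nat.prime_three P.ne π
  have em := isMC_cX hp he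
  have key : ∀ c ∈ Ps hp p Z, cX hp e c = 1 ∧ CX p l z c := fun c hc => by
    obtain ⟨r1, r2⟩ := (Z4 c).1 hc
    have r3 : (3 : ℤ) • c = (2 * cp hp c a + cp hp c b) • a + (cp hp c a + 2 * cp hp c b) • b := by
      rw [π0, sub_sub, sub_eq_zero] at r2
      exact r2
    have r4 := congrArg (fun x => cp hp x c) r3
    simp only [ad r1, sm r1] at r4
    rw [show cp hp c c = 2 from cpr_self _ _ r1, sy ra r1, sy rb r1] at r4
    rcases six r4 with ⟨e1, e2⟩ | ⟨e1, e2⟩ | ⟨e1, e2⟩ | ⟨e1, e2⟩ | ⟨e1, e2⟩ | ⟨e1, e2⟩ <;> rw [e1, e2] at r3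
    · obtain rfl : c = a := three_cancel (by rw [r3]; module)
      exact ⟨ea, za⟩
    · obtain rfl : c = -a := three_cancel (by rw [r3]; module)
      exact ⟨by rw [em.neg, ea, inv_one], za'⟩
    · obtain rfl : c = b := three_cancel (by rw [r3]; module)
      exact ⟨eb, zb⟩
    · obtain rfl : c = -b := three_cancel (by rw [r3]; module)
      exact ⟨by rw [em.neg, eb, inv_one], zb'⟩
    · obtain rfl : c = a + b := three_cancel (by rw [r3]; module)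
      exact ⟨by rw [em.add, ea, eb, one_mul], zc⟩
    · obtain rfl : c = -(a + b) := three_cancel (by rw [r3]; module)
      exact ⟨by rw [em.neg, em.add, ea, eb, one_mul, inv_one], zc'⟩
  have zM : ∀ m ∈ Mz hp p Z, Commute z m := fun m hm =>
    (Subgroup.mem_centralizer_singleton_iff.1 (Mz_le (K := Subgroup.centralizer {z}) (fun c hc y hy =>
      Subgroup.mem_centralizer_singleton_iff.2 ((key c hc).2 y hy).symm) hm)).symm
  have nM : ∀ c, RT hp c → π c = 0 → MS D p {c, -c} ≤ Mz hp p Z := fun c r1 r2 => iSup_le (by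
    rintro ⟨_, rfl | rfl⟩
    exacts [X_le_Mz ((Z4 _).2 ⟨r1, r2⟩), X_le_Mz ((Z4 _).2 ⟨r1.neg, by rw [map_neg, r2, neg_zero]⟩)])
  have n1 : na * nb ∈ Mz hp p Z := mul_mem (nM a ra πa a1) (nM b rb πb b1)
  have n2 : Commute z (na * nb * t) := (zM _ n1).mul_right (z1.comm t1 fun x => by
    have h1 := iv ra w' x
    have h2 := iv rb w' x
    rw [w1] at h1
    rw [w2] at h2
    rw [← repAut_apply, t2, t2, h1, h2])
  have n3 : RP hp p u (na * nb * t) := mul_one u ▸ n0.mul (RP.of_mem t1)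
  have n4 : na * nb * t ∈ DZ hp p Z := mul_mem (Mz_le_DZ n1) (T_le_DZ t1)
  generalize na * nb * t = n at n2 n3 n4 hfz
  have n5 : n ^ 3 = (z ^ 3)⁻¹ := eq_inv_of_mul_eq_one_left (by rw [← n2.symm.mul_pow, ← hfz, P.hf])
  obtain ⟨m, m1, m2⟩ := conj_T' Nat.prime_three P.ne Z1 Z2 Z3 n4 (RP.mem_T (hp := hp) (u4 ▸ n3.pow 3))
    fun m hm => n5 ▸ ((zM m hm).pow_left 3).inv_left
  refine ⟨m, w', (comm_Mz he (fun c hc => (key c hc).1) m1).symm, ?_, w1, fun x hx => ?_⟩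
  · rw [show m * f * m⁻¹ = m * n * m⁻¹ * z by rw [hfz, mul_assoc _ m⁻¹, ← (zM m m1).inv_right.eq]; group]
    exact one_mul w' ▸ (RP.of_mem m2).mul z1
  · let N : LL l →+ LL l := AddMonoidHom.mk' (Nw hp 3 w) fun x y => by
      simp only [nw3, map_add]
      abel
    have N0 : ∀ x, N x = x + ac hp w x + ac hp w (ac hp w x) := nw3 w
    have N1 : ∀ x, N (ac hp w x) = N x := fun x => by rw [N0, N0, w3]; abel
    have Na : N a = 0 := by rw [N0, hb, h0]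
    have Nb : N b = 0 := by rw [← hb, N1, Na]
    have N2 : ∀ x, N (ac hp w' x) = N x := fun x => by
      obtain ⟨i, j, h⟩ := u1 (ac hp w' x)
      rw [← N1 x, ← w0, h, map_add, map_add, map_zsmul, map_zsmul, Na, Nb, smul_zero, smul_zero, add_zero, add_zero]
    have h1 := congrArg N hx
    rw [nw3, map_add, map_add, N2, N2, N2, map_zero] at h1
    change N x = 0
    generalize N x = y at h1
    exact three_cancel (by rw [smul_zero, ← h1]; module)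

end Cfsg.Agent.N2.Ex.CC
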