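import Cfsg.Agent.N2.Ex.CC.Defs

/-!
# N2 (S3519), `BoxCC`: the best torus (helper22)

`boxQC`.
-/

set_option autoImplicit false
set_option linter.unusedSectionVars false

namespace Cfsg.Agent.N2.Ex.CC

open CoxeterSystem Cfsg Cfsg.Lie Cfsg.Lie.ChevalleyDatum
open Cfsg.Agent.ChevalleyStructure Cfsg.Agent.ChevalleyStructure.CoxeterGeom Cfsg.Agent.Tits.Roots Cfsg.Agent.Nodes
  Cfsg.Agent.Nodes.BNOf Cfsg.Agent.Nodes.RGDChev Cfsg.Agent.Nodes.Coroot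
open Cfsg.Agent.KFacts.RgdChevCoord Cfsg.Agent.BpExc.Fr Cfsg.Agent.BpExc.LangFr
open Cfsg.Agent.H469.Exc Cfsg.Agent.H316.U6 Cfsg.Agent.H129.TorusChar Cfsg.Agent.DS.Ex Cfsg.Agent.DS.Nt
open Cfsg.Agent.DS.Ex.Tor (RT FR MS)
open Cfsg.Agent.N2.Ex.Al (LL cp ac GW Ch)

namespace QCa

variable {D : ChevalleyDatum} {l : ℕ} {M : CoxeterMatrix (Fin l)} {hp : IsType D l M} {p : ℕ} [Fact p.Prime]

/-- a generic form -/
theorem exists_gen {S : Set (LL l)} (hS : S.Finite) (N : LL l →+ LL l) (h : ∀ a ∈ S, N a ≠ 0) :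
    ∃ μ : LL l →+ ℚ, ∀ a ∈ S, μ (N a) ≠ 0 := by
  have := hS.to_subtype
  obtain ⟨φ, hφ⟩ := Module.exists_dual_forall_apply_ne_zero (K := ℚ) (fun a : S => fun i => ((N a i : ℤ) : ℚ))
    fun a e => h a a.2 (funext fun i => Int.cast_injective (α := ℚ) ((congrFun e i).trans Int.cast_zero.symm))
  exact ⟨φ.toAddMonoidHom.comp ((Int.castAddHom ℚ).compLeft (Fin l)), fun a ha => hφ ⟨a, ha⟩⟩

/-- the chamber of a form -/
theorem exists_dom {Z : Set (YY D p)} (hZ : Z ⊆ TT D (KK p)) (μ : LL l →+ ℚ) :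
    ∃ m ∈ Mz hp p Z, ∃ v, RP hp p v m ∧ ∀ a ∈ Ps hp p Z, 0 ≤ a → 0 ≤ μ (ac hp v a) := by
  have := finW hp
  obtain ⟨y, hy⟩ := BpExc.TorCent.exists_rho (cs := M.toCoxeterSystem) (h := hp.isCartan)
  obtain ⟨⟨v, hv⟩, hmax⟩ := Finite.exists_max fun v : H795.SetCent.VV (tw hp p) (ch hp) Z => μ (ac hp v.1 y)
  obtain ⟨m, hm, h0⟩ := id hv
  rw [XLe hp p] at hm
  refine ⟨m, hm, v, h0, fun a ha h0 => ?_⟩
  obtain ⟨u, i, hau, hr⟩ := H795.SetCent.exists_rfl_MMZ (tw hp p) (coW hp p) (chW hp p) (sub_TL hZ) ha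
  have h1 := hmax ⟨v * SubComb.rfl' M.toCoxeterSystem u i, mul_mem hv hr⟩
  have h2 : ac hp (v * SubComb.rfl' M.toCoxeterSystem u i) y = ac hp v y - cp hp y a • ac hp v a := by
    change rep _ _ _ _ = rep _ _ _ _ - _ • rep _ _ _ _
    rw [rep_mul_apply, rep_rfl'_eq, ← hau, map_sub, map_smul]
  simp only at h1
  rw [h2, map_sub, map_zsmul, sub_le_self_iff, zsmul_eq_mul] at h1
  exact nonneg_of_mul_nonneg_right h1 (Int.cast_pos.2 (hy a ha.1 h0))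

theorem ps_act {e k : YY D p} {w : M.Group} (he : e ∈ TT D (KK p)) (h : RP hp p w k) (hc : k * e = e * k) {a : LL l}
    (ha : a ∈ Ps hp p {e}) : ac hp w a ∈ Ps hp p {e} :=
  (mem_Ps (Set.singleton_subset_iff.2 he)).2 ⟨ha.1.act w, fun t ht => by
    rw [ht]
    exact (h.cX_of_comm he hc a).trans (((mem_Ps (Set.singleton_subset_iff.2 he)).1 ha).2 e rfl)⟩

theorem nw_act {r : ℕ} {w : M.Group} (h : w ^ r = 1) (x : LL l) : Nw hp r w (ac hp w x) = Nw hp r w x := by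
  have h1 := (Finset.sum_range_succ (fun i => ac hp (w ^ i) x) r).symm.trans
    (Finset.sum_range_succ' (fun i => ac hp (w ^ i) x) r)
  rw [h, pow_zero, add_left_inj] at h1
  refine Eq.trans (Finset.sum_congr rfl fun i _ => ?_) h1.symm
  rw [pow_succ]
  exact (rep_mul_apply _ _ _ _ _).symm

end QCa

open QCa

/-- **the best torus** -/
theorem boxQC : BoxQC := by
  intro D l M hp p _ hT r e f w hP he hw hN
  have := finW hp
  have hZ := Set.singleton_subset_iff.2 he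
  have h1 : w ^ r = 1 := (hw.pow r).unique (hP.hf ▸ RP.of_mem (one_mem _))
  let N : LL l →+ LL l := ∑ i ∈ Finset.range r, (ac hp (w ^ i)).toAddMonoidHom
  have h2 : ∀ x, N x = Nw hp r w x := fun x => AddMonoidHom.finsetSum_apply _ _ _
  obtain ⟨μ, hμ⟩ := exists_gen ((RGD.finite_roots (cs := M.toCoxeterSystem) (h := hp.isCartan)).subset
    fun a (ha : a ∈ Ps hp p {e}) => ha.1) N fun a ha => (h2 a).trans_ne (hN a ha)
  obtain ⟨m, hm, v, hv, h3⟩ := exists_dom (hp := hp) hZ (μ.comp N)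
  have h4 := Mz_comm hZ hm rfl
  have h5 : m⁻¹ * e = e * m⁻¹ := (show Commute m e from h4).inv_left.eq
  have h6 : m⁻¹ * f * m⁻¹⁻¹ * e = e * (m⁻¹ * f * m⁻¹⁻¹) :=
    (((show Commute m⁻¹ e from h5).mul_left hP.comm).mul_left (show Commute m⁻¹ e from h5).inv_left).eq
  have h7 := (hv.inv.mul hw).mul hv.inv.inv
  refine ⟨m⁻¹, _, h5, he, h7, h6, fun a ha h0 => ?_⟩
  have h8 := ps_act he h7 h6 ha
  refine h8.1.pos_or_neg.elim id fun h9 => (hμ _ (ps_act he hv h4 ha) (le_antisymm ?_ (h3 a ha h0))).elim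
  have h10 := h3 _ (H795.SetCent.SxZ_neg (coW hp p) (sub_TL hZ) (chW hp p) h8) (neg_nonneg.2 h9)
  have h11 : ac hp v (ac hp (v⁻¹ * w * v⁻¹⁻¹) a) = ac hp w (ac hp v a) := by
    change rep _ _ _ (rep _ _ _ _) = rep _ _ _ (rep _ _ _ _)
    rw [← rep_mul_apply, ← rep_mul_apply, inv_inv, ← mul_assoc, mul_inv_cancel_left]
  rwa [map_neg, map_neg, h11, AddMonoidHom.comp_apply, h2, nw_act h1, ← h2, neg_nonneg] at h10

end Cfsg.Agent.N2.Ex.CC
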