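import Cfsg.Agent.N2.Ex.CC.Defs
import Cfsg.Agent.N2.Ex.Al.Grp
import Cfsg.Agent.SB.Exc.W.MC

/-!
# N2 (S3519), `BoxCC`: the reflections of the folded system (helper94)
-/

set_option autoImplicit false
set_option linter.unusedSectionVars false
set_option maxHeartbeats 400000

namespace Cfsg.Agent.N2.Ex.CC

open CoxeterSystem Cfsg Cfsg.Lie Cfsg.Lie.ChevalleyDatum
open Cfsg.Agent.ChevalleyStructure Cfsg.Agent.ChevalleyStructure.CoxeterGeom Cfsg.Agent.Tits.Roots Cfsg.Agent.Nodes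
  Cfsg.Agent.Nodes.BNOf Cfsg.Agent.Nodes.RGDChev Cfsg.Agent.Nodes.Coroot
open Cfsg.Agent.KFacts.RgdChevCoord Cfsg.Agent.BpExc.Fr Cfsg.Agent.BpExc.LangFr
open Cfsg.Agent.H469.Exc Cfsg.Agent.H316.U6 Cfsg.Agent.H129.TorusChar Cfsg.Agent.DS.Ex Cfsg.Agent.DS.Nt
open Cfsg.Agent.DS.Ex.Tor (RT FR MS)
open Cfsg.Agent.N2.Ex.Al (LL cp ac GW Ch)
open Cfsg.Agent.N2.Ex.Al.ET (ac_mul ac_one)

namespace Tw

section pure

variable {Y : Type} [Group Y] (f : Y)

/-- the product of the first `n` conjugates -/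
def nm (n : ℕ) (x : Y) : Y := ((List.range n).map fun i => f ^ i * x * (f ^ i)⁻¹).prod

theorem nm_zero (x : Y) : nm f 0 x = 1 := rfl

theorem nm_succ (n : ℕ) (x : Y) : nm f (n + 1) x = nm f n x * (f ^ n * x * (f ^ n)⁻¹) := by
  simp [nm, List.range_succ]

theorem nm_conj (n : ℕ) (x : Y) : x * (f * nm f n x * f⁻¹) = nm f (n + 1) x := by
  induction n with
  | zero => simp [nm_succ, nm_zero]
  | succ n ih =>
    have h := nm_succ f (n + 1) x
    rw [← ih] at h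
    rw [h, nm_succ, pow_succ']
    group

variable {f}

theorem nm_mem {K : Subgroup Y} {n : ℕ} {x : Y} (h : ∀ i < n, f ^ i * x * (f ^ i)⁻¹ ∈ K) : nm f n x ∈ K := by
  induction n with
  | zero => exact one_mem _
  | succ n ih =>
    rw [nm_succ]
    exact mul_mem (ih fun i hi => h i (by omega)) (h n (by omega))

theorem nm_mul {n : ℕ} {x y : Y}
    (h : ∀ j < n, ∀ i < j, Commute (f ^ j * x * (f ^ j)⁻¹) (f ^ i * y * (f ^ i)⁻¹)) : nm f n (x * y) = nm f n x * nm f n y := by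
  induction n with
  | zero => simp [nm_zero]
  | succ n ih =>
    have h1 : nm f n y ∈ Subgroup.centralizer {f ^ n * x * (f ^ n)⁻¹} :=
      nm_mem fun i hi => Subgroup.mem_centralizer_singleton_iff.2 (h n (by omega) i hi).symm
    rw [nm_succ, nm_succ, nm_succ, ih fun j hj => h j (by omega), mul_assoc (nm f n x) (f ^ n * x * (f ^ n)⁻¹),
      ← mul_assoc (f ^ n * x * (f ^ n)⁻¹), ← Subgroup.mem_centralizer_singleton_iff.1 h1]
    group

theorem nm_one (n : ℕ) : nm f n 1 = 1 := Subgroup.mem_bot.1 (nm_mem fun i _ => by simp)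

theorem nm_comm {r : ℕ} {x : Y} (hf : f ^ r = 1) (h : ∀ i < r, Commute x (f ^ i * x * (f ^ i)⁻¹)) :
    f * nm f r x = nm f r x * f := by
  have h1 := nm_conj f r x
  have h2 : nm f r x ∈ Subgroup.centralizer {x} := nm_mem fun i hi => Subgroup.mem_centralizer_singleton_iff.2 (h i hi).symm
  rw [nm_succ, hf, one_mul, inv_one, mul_one, Subgroup.mem_centralizer_singleton_iff.1 h2, mul_right_inj] at h1
  exact mul_inv_eq_iff_eq_mul.1 h1

end pure

variable {D : ChevalleyDatum} {l : ℕ} {M : CoxeterMatrix (Fin l)} {hp : IsType D l M} {p : ℕ} [Fact p.Prime]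
  {r : ℕ} {e f : YY D p} {v w : M.Group} {a b : LL l}

theorem rt_ac (ha : RT hp a) (w : M.Group) : RT hp (ac hp w a) := ha.act w

theorem cp_ac (w : M.Group) (x : LL l) (ha : RT hp a) : cp hp (ac hp w x) (ac hp w a) = cp hp x a :=
  have := finW hp
  cpr_rep _ _ w x ha

theorem conj_X (h : RP hp p w f) (ha : RT hp a) {x : YY D p} (hx : x ∈ XX D l (KK p) a) :
    f * x * f⁻¹ ∈ XX D l (KK p) (ac hp w a) := by
  have h1 := h.cj_X ha
  rw [repAut_apply, ← h1]
  exact ⟨x, hx, rfl⟩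

theorem dc (P : P2 p r e f) (hp : IsType D l M) : SB.Exc.Max.DC M.toCoxeterSystem hp.isCartan (XX D l (KK p)) := by
  rcases SB.Exc.W.laced hp P.tp with h | h
  · have h1 := typ_l hp
    have h2 := h1.1 h
    rcases P.typ with k | k
    · have := h1.2.1 k.1
      omega
    · have := h1.2.2.1 k.1
      omega
  · exact SB.Exc.W.dc_laced hp h.1 h.2 _

theorem ort_neg (ha : RT hp a) (h : Ort hp r v a) : Ort hp r v (-a) := fun i h1 h2 => by
  have := finW hp
  rw [map_neg, cp, cpr_neg _ _ _ ha.neg, cpr_neg_right _ _ _ ha, neg_neg]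
  exact h i h1 h2

theorem ort_lt (ha : RT hp a) (h : Ort hp r v a) {i j : ℕ} (hj : j < r) (hi : i < j) :
    cp hp (ac hp (v ^ j) a) (ac hp (v ^ i) a) = 0 := by
  obtain ⟨k, rfl⟩ := Nat.exists_eq_add_of_lt hi
  rw [add_assoc, pow_add, ac_mul, cp_ac _ _ ha]
  exact h _ (by omega) (by omega)

/-- the subgroup generated by the root groups of `± a` -/
noncomputable abbrev JJ (D : ChevalleyDatum) {l : ℕ} (p : ℕ) [Fact p.Prime] (a : LL l) : Subgroup (YY D p) :=
  XX D l (KK p) a ⊔ XX D l (KK p) (-a)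

theorem conj_J (h : RP hp p w f) (ha : RT hp a) {x : YY D p} (hx : x ∈ JJ D p a) : f * x * f⁻¹ ∈ JJ D p (ac hp w a) := by
  have h1 : JJ D p a ≤ (JJ D p (ac hp w a)).comap (MulAut.conj f).toMonoidHom :=
    sup_le (fun y hy => Subgroup.mem_sup_left (conj_X h ha hy)) fun y hy =>
      Subgroup.mem_sup_right (map_neg (ac hp w) a ▸ conj_X h ha.neg hy)
  exact h1 hx

theorem comm_J (P : P2 p r e f) (ha : RT hp a) (hb : RT hp b) (h : cp hp a b = 0) {x y : YY D p} (hx : x ∈ JJ D p a)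
    (hy : y ∈ JJ D p b) : Commute x y := by
  have := finW hp
  have k : ∀ c, RT hp c → cp hp c b = 0 → XX D l (KK p) c ≤ Subgroup.centralizer (JJ D p b : Set (YY D p)) := fun c hc h0 => by
    rw [Subgroup.le_centralizer_iff]
    refine sup_le (fun u hu z hz => (dc P hp b c hb hc h0.ge u hu z hz).symm) fun u hu z hz =>
      (dc P hp (-b) c hb.neg hc ?_ u hu z hz).symm
    rw [cpr_neg_right _ _ _ hb, neg_nonneg]
    exact h0.le
  exact ((sup_le (k a ha h) (k _ ha.neg (by rw [cp, cpr_neg _ _ _ hb, neg_eq_zero]; exact h)) : JJ D p a ≤ _) hx y hy).symm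

theorem comm_cj (P : P2 p r e f) (hv : RP hp p v f) (ha : RT hp a) (h : Ort hp r v a) {x y : YY D p} (hx : x ∈ JJ D p a)
    (hy : y ∈ JJ D p a) : ∀ j < r, ∀ i < j, Commute (f ^ j * x * (f ^ j)⁻¹) (f ^ i * y * (f ^ i)⁻¹) := fun j hj i hi =>
  comm_J P (rt_ac ha _) (rt_ac ha _) (ort_lt ha h hj hi) (conj_J (hv.pow j) ha hx) (conj_J (hv.pow i) ha hy)

theorem neg_Ps (he : e ∈ TT D (KK p)) (ha : a ∈ Ps hp p {e}) : -a ∈ Ps hp p {e} := by
  rw [mem_Ps (Set.singleton_subset_iff.2 he)] at ha ⊢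
  refine ⟨ha.1.neg, fun t ht => ?_⟩
  rw [(isMC_cX hp (ht ▸ he)).neg, ha.2 t ht, inv_one]

/-- the cocharacter -/
theorem tor (he : e ∈ TT D (KK p)) (hv : RP hp p v f) {μ : LL l →+ ℤ} (h : ∀ x, μ (ac hp v x) = μ x) :
    ∀ t ∈ TT D (KK p), ∀ c : KK p, c ≠ 0 → (∀ x, cX hp t x = c ^ μ x) → ∀ z ∈ ({e, f} : Set (YY D p)), z * t = t * z := by
  rintro t ht c - h1 _ (rfl | rfl)
  · exact BpExc.TorChev.TT_comm hp _ he _ ht
  · exact hv.comm ht fun x => by rw [h1, h1, ← h x, repAut_apply]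

theorem nm_X (hC : BoxCur) (P : P2 p r e f) (he : e ∈ TT D (KK p)) (hv : RP hp p v f) (ha : a ∈ Ps hp p {e})
    (h : Ort hp r v a) {x : YY D p} (hx : x ∈ XX D l (KK p) a) : nm f r x ∈ Cc p {e, f} := by
  have := finW hp
  have h0 : RT hp a := ha.1
  have hr := P.prime.pos
  have h1 : v ^ r = 1 := (hv.pow r).unique (P.hf ▸ RP.of_mem (one_mem _))
  let μ : LL l →+ ℤ := ∑ i ∈ Finset.range r, ell _ _ (rt_ac h0 (v ^ i))
  have h2 : ∀ x, μ x = ∑ i ∈ Finset.range r, cp hp x (ac hp (v ^ i) a) := fun x => by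
    rw [AddMonoidHom.finsetSum_apply]
    rfl
  have h3 : ∀ x, μ (ac hp v x) = μ x := fun x => by
    have k1 := Finset.sum_range_succ (fun i => cp hp (ac hp v x) (ac hp (v ^ i) a)) r
    rw [Finset.sum_range_succ', h1, pow_zero, add_left_inj] at k1
    rw [h2, h2, ← k1]
    exact Finset.sum_congr rfl fun i _ => by rw [pow_succ', ac_mul, cp_ac _ _ (rt_ac h0 _)]
  have h4 : ∀ i : ℕ, μ (ac hp (v ^ i) a) = 2 := fun i => by
    induction i with
    | zero =>
      rw [pow_zero, ac_one, h2, Finset.sum_eq_single 0 (fun j hj hj0 =>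
        (cpr_zero_comm _ _ h0 (rt_ac h0 _)).2 (h j (by omega) (Finset.mem_range.1 hj))) (by simp; omega), pow_zero, ac_one]
      exact cpr_self _ _ h0
    | succ i ih => rw [pow_succ', ac_mul, h3, ih]
  refine hC D l M hp p P.tp μ (Set.range fun i : ℕ => ac hp (v ^ i) a) _ _ ?_
    (nm_mem fun i _ => RGD.le_Sup (S := Set.range fun i : ℕ => ac hp (v ^ i) a) ⟨i, rfl⟩ (conj_X (hv.pow i) h0 hx)) ?_
    (tor he hv h3)
  · rintro _ ⟨i, rfl⟩
    exact ⟨rt_ac h0 _, by rw [h4]; decide⟩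
  · rintro z (rfl | rfl)
    · refine (Subgroup.mem_centralizer_singleton_iff.1 (nm_mem fun i _ => ?_)).symm
      have k1 : f ∈ Subgroup.centralizer {z} := Subgroup.mem_centralizer_singleton_iff.2 P.comm
      exact mul_mem (mul_mem (pow_mem k1 i) (Subgroup.mem_centralizer_singleton_iff.2
        (Mz_comm (Set.singleton_subset_iff.2 he) (X_le_Mz ha hx) rfl))) (inv_mem (pow_mem k1 i))
    · refine nm_comm P.hf fun i hi => ?_
      rcases Nat.eq_zero_or_pos i with rfl | k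
      · simp
      · simpa using (comm_cj P hv h0 h (Subgroup.mem_sup_left hx) (Subgroup.mem_sup_left hx) i hi 0 k).symm

theorem nm_rp (hv : RP hp p v f) (ha : RT hp a) (h : Ort hp r v a) {m : YY D p} (hw : RP hp p w m) (h1 : Rl hp a w) :
    ∀ n ≤ r, ∃ u, RP hp p u (nm f n m) ∧ Ro hp n v a u := fun n hn => by
  have := finW hp
  induction n with
  | zero => exact ⟨1, RP.of_mem (one_mem _), fun x => by simp⟩
  | succ n ih =>
    obtain ⟨u, h2, h3⟩ := ih (by omega)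
    refine ⟨u * (v ^ n * w * (v ^ n)⁻¹), nm_succ f n m ▸ h2.mul (((hv.pow n).mul hw).mul (hv.pow n).inv), fun x => ?_⟩
    have h4 : ac hp (v ^ n) (ac hp (v ^ n)⁻¹ x) = x := by rw [← ac_mul, mul_inv_cancel, ac_one]
    rw [ac_mul, ac_mul, ac_mul, h1, map_sub, map_zsmul, ← cp_ac (v ^ n) _ ha, h4, h3, Finset.sum_range_succ, sub_sub,
      add_comm]
    congr 2
    refine Finset.sum_congr rfl fun i hi => ?_
    have h5 := ort_lt ha h (j := n) (by omega) (Finset.mem_range.1 hi)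
    rw [cp, sub_eq_add_neg, ← neg_smul, cpr_add _ _ _ _ (rt_ac ha _), cpr_smul _ _ _ _ (rt_ac ha _)]
    rw [cp] at h5
    rw [h5, mul_zero, add_zero]

theorem X_le (hC : BoxCur) (P : P2 p r e f) (he : e ∈ TT D (KK p)) (hv : RP hp p v f) (ha : a ∈ Ps hp p {e})
    (h : CX p l f a) : XX D l (KK p) a ≤ Cc p {e, f} := fun x hx => by
  have := finW hp
  have h0 : RT hp a := ha.1
  have h1 : a = ac hp v a := Al.Gp.X_inj (p := p) h0 (rt_ac h0 v) fun y hy => by
    have k := conj_X hv h0 hy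
    rwa [h y hy, mul_inv_cancel_right] at k
  refine hC D l M hp p P.tp (ell _ _ h0) {a} _ _ ?_ (RGD.le_Sup (S := {a}) rfl hx) ?_ (tor he hv fun y => ?_)
  · rintro _ rfl
    exact ⟨h0, by rw [ell_apply, cpr_self _ _ h0]; decide⟩
  · rintro z (rfl | rfl)
    · exact (Mz_comm (Set.singleton_subset_iff.2 he) (X_le_Mz ha hx) rfl).symm
    · exact h x hx
  · have k := cp_ac v y h0
    rwa [← h1] at k

end Tw

open Tw

/-- **[Tw]** -/
theorem boxTw : BoxTw := fun hC D l M hp p _ _ r e f v a P he hv ha => by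
  have h0 : RT hp a := ha.1
  refine ⟨fun h => ?_, fun h1 h2 => Al.Gp.exists_refl h0 (X_le hC P he hv ha h1) (X_le hC P he hv (neg_Ps he ha) h2)⟩
  let N : Subgroup (YY D p) :=
    { carrier := {x | x ∈ JJ D p a ∧ nm f r x ∈ Cc p {e, f}}
      one_mem' := ⟨one_mem _, (nm_one (f := f) r).symm ▸ one_mem _⟩
      mul_mem' := fun {x y} hx hy => ⟨mul_mem hx.1 hy.1, (nm_mul (comm_cj P hv h0 h hx.1 hy.1)).symm ▸ mul_mem hx.2 hy.2⟩
      inv_mem' := fun {x} hx => ⟨inv_mem hx.1, by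
        have k := nm_mul (comm_cj P hv h0 h hx.1 (inv_mem hx.1))
        rw [mul_inv_cancel, nm_one] at k
        exact (eq_inv_of_mul_eq_one_right k.symm).symm ▸ inv_mem hx.2⟩ }
  obtain ⟨m, hm, w, h1, h2⟩ := Al.Gp.exists_refl (N := N) h0
    (fun x hx => ⟨Subgroup.mem_sup_left hx, nm_X hC P he hv ha h hx⟩)
    fun x hx => ⟨Subgroup.mem_sup_right hx, nm_X hC P he hv (neg_Ps he ha) (ort_neg h0 h) hx⟩
  exact ⟨_, hm.2, nm_rp hv h0 h h1 h2 r le_rfl⟩

end Cfsg.Agent.N2.Ex.CC
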