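import Cfsg.Agent.N2.Ex.CC.Asm
import Cfsg.Agent.N2.Ex.CC.Lang
import Cfsg.Agent.N2.Ex.CC.Cur
import Cfsg.Agent.N2.Ex.CC.Neg
import Cfsg.Agent.N2.Ex.CC.QA
import Cfsg.Agent.N2.Ex.CC.QB2
import Cfsg.Agent.N2.Ex.CC.QB3
import Cfsg.Agent.N2.Ex.CC.QC
import Cfsg.Agent.N2.Ex.CC.Cj
import Cfsg.Agent.N2.Ex.CC.Fr
import Cfsg.Agent.N2.Ex.CC.Nf
import Cfsg.Agent.N2.Ex.CC.Tw
import Cfsg.Agent.N2.Ex.CC.Lt79
import Cfsg.Agent.N2.Ex.CC.Lt30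
import Cfsg.Agent.N2.Ex.CC.D30
import Cfsg.Agent.N2.Ex.CC.D24
import Cfsg.Agent.N2.Ex.CC.El
import Cfsg.Agent.N2.Ex.CC.Fin

/-!
# N2 (S3519), exceptional groups: the box `CC` (helper32)
-/

set_option autoImplicit false
set_option maxHeartbeats 400000

namespace Cfsg.Agent.N2.Ex

theorem CC.boxY : CC.BoxY := CC.boxY_of ⟨CC.boxLang, CC.boxCur, CC.boxNeg, CC.boxQA, CC.boxQB2, CC.boxQB3, CC.boxQC, CC.boxCj,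
  CC.boxFr, CC.boxNf, CC.boxTw, CC.Lt79.boxLt63, CC.boxLt79, CC.boxLt30, CC.boxD30, CC.boxD24, CC.boxEl⟩

/-- **[CC]** -/
theorem boxCC : BoxCC := CC.boxFin CC.boxY

end Cfsg.Agent.N2.Ex
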