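import Cfsg.Agent.N2.Ex.CC.Defs
import Cfsg.Agent.N2.Ex.Al.Grp

/-!
# N2 (S3519), the four-groups and nine-groups that are not toral: assembly (helper32)
-/

set_option autoImplicit false
set_option linter.unusedSectionVars false
set_option maxHeartbeats 400000

namespace Cfsg.Agent.N2.Ex.CC

open CoxeterSystem Cfsg Cfsg.Lie Cfsg.Lie.ChevalleyDatum
open Cfsg.Agent.ChevalleyStructure Cfsg.Agent.ChevalleyStructure.CoxeterGeom Cfsg.Agent.Tits.Roots Cfsg.Agent.Nodes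
  Cfsg.Agent.Nodes.BNOf Cfsg.Agent.Nodes.RGDChev Cfsg.Agent.Nodes.Coroot
open Cfsg.Agent.KFacts.RgdChevCoord Cfsg.Agent.BpExc.Fr Cfsg.Agent.BpExc.LangFr
open Cfsg.Agent.H469.Exc Cfsg.Agent.H316.U6 Cfsg.Agent.H129.TorusChar Cfsg.Agent.DS.Ex Cfsg.Agent.DS.Nt
open Cfsg.Agent.DS.Ex.Tor (RT FR MS)
open Cfsg.Agent.N2.Ex.Al (LL cp ac GW Ch)

/-- the boxes in the algebraic group -/
structure Bx : Prop where
  lang : BoxLang
  cur : BoxCur
  neg : BoxNeg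
  qa : BoxQA
  qb2 : BoxQB 2
  qb3 : BoxQB 3
  qc : BoxQC
  cj : BoxCj
  fr : BoxFr
  nf : BoxNf
  tw : BoxTw
  lt63 : BoxLt 63
  lt79 : BoxLt 79
  lt30 : BoxLt 30
  d30 : BoxD30
  d24 : BoxD24
  el : BoxEl

namespace Asm

variable {D : ChevalleyDatum} {l : ℕ} {M : CoxeterMatrix (Fin l)} {hp : IsType D l M} {p : ℕ} [Fact p.Prime]
  {r n k : ℕ} {e f : YY D p} {σ : MulAut (YY D p)}

theorem cj_eq {Y : Type*} [Group Y] {g e : Y} (h : g * e = e * g) : g * e * g⁻¹ = e := by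
  rw [h, mul_inv_cancel_right]

theorem step (B : Bx) (he : e ∈ TT D (KK p)) : ∀ (m : ℕ) (f : YY D p) (w : M.Group), P2 p r e f → RP hp p w f →
    {a | RT hp a ∧ Nw hp r w a = 0}.ncard ≤ m → ∃ g w', g * e = e * g ∧ Qs hp p e (g * f * g⁻¹) w' := by
  intro m
  induction m using Nat.strong_induction_on with
  | _ m ih =>
  intro f w P hw hm
  by_cases h : ∀ a ∈ Ps hp p {e}, Nw hp r w a ≠ 0
  · exact B.qc D l M hp p P.tp r e f w P he hw h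
  push Not at h
  obtain ⟨a, ha, h0⟩ := h
  obtain ⟨g, w', h1, h2, h3, h4⟩ : ∃ (g : YY D p) (w' : M.Group), g * e = e * g ∧ RP hp p w' (g * f * g⁻¹) ∧
      ac hp w' a = a ∧ ∀ x, Nw hp r w' x = 0 → Nw hp r w x = 0 := by
    rcases P.typ with ⟨-, rfl⟩ | ⟨-, rfl⟩
    exacts [B.qb3 B.neg D l M hp p P.tp e f w a P he hw ha h0, B.qb2 B.neg D l M hp p P.tp e f w a P he hw ha h0]
  have h5 : Nw hp r w' a ≠ 0 := fun h6 => by
    have h7 : ∀ i, ac hp (w' ^ i) a = a := fun i => by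
      induction i with
      | zero => rw [pow_zero, Al.ET.ac_one]
      | succ i h8 => rw [pow_succ, Al.ET.ac_mul, h3, h8]
    simp only [Nw, h7, Finset.sum_const, Finset.card_range] at h6
    exact ha.1.ne_zero ((smul_eq_zero.1 h6).resolve_left P.prime.ne_zero)
  have h6 : {a | RT hp a ∧ Nw hp r w' a = 0}.ncard < {a | RT hp a ∧ Nw hp r w a = 0}.ncard :=
    Set.ncard_lt_ncard ⟨fun x hx => ⟨hx.1, h4 x hx.2⟩, fun h7 => h5 (h7 ⟨ha.1, h0⟩).2⟩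
      ((Al.Gp.fin_RT hp).subset fun _ hx => hx.1)
  obtain ⟨g', w'', h7, h8⟩ := ih _ (h6.trans_le hm) (g * f * g⁻¹) w' (cj_eq h1 ▸ P.conj g) h2 le_rfl
  refine ⟨g' * g, w'', by rw [mul_assoc, h1, ← mul_assoc, h7, mul_assoc], ?_⟩
  rwa [show g' * g * f * (g' * g)⁻¹ = g' * (g * f * g⁻¹) * g'⁻¹ by group]

/-- `f` is quasi-semisimple on `C(e)⁰` -/
theorem exists_qs (B : Bx) (P : P2 p r e f) : ∃ g w, Qs hp p (g * e * g⁻¹) (g * f * g⁻¹) w := by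
  obtain ⟨g, hg⟩ := exists_conj_T hp P.prime P.ne (n := 1) (by rw [pow_one, P.he])
  obtain ⟨g₁, h1, w, h2⟩ := B.qa D l M hp p P.tp r _ _ (P.conj g) hg
  obtain ⟨g₂, w', h3, h4⟩ := step B hg _ _ w (cj_eq h1 ▸ (P.conj g).conj g₁) h2 le_rfl
  refine ⟨g₂ * g₁ * g, w', ?_⟩
  rwa [show g₂ * g₁ * g * e * (g₂ * g₁ * g)⁻¹ = g₂ * (g₁ * (g * e * g⁻¹) * g₁⁻¹) * g₂⁻¹ by group, cj_eq h1, cj_eq h3,
    show g₂ * g₁ * g * f * (g₂ * g₁ * g)⁻¹ = g₂ * (g₁ * (g * f * g⁻¹) * g₁⁻¹) * g₂⁻¹ by group]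

theorem ne_one {w : M.Group} (Q : Qs hp p e f w) (h : ¬ Tp p e f) : w ≠ 1 := by
  rintro rfl
  exact h ⟨1, by simpa using Q.mem, by simpa using Q.rp.mem_T⟩

/-- the conjugate Frobenius map -/
noncomputable abbrev cs (z : YY D p) (σ : MulAut (YY D p)) : MulAut (YY D p) := MulAut.conj z * σ * (MulAut.conj z)⁻¹

theorem cs_apply (z y : YY D p) : cs z σ (z * y * z⁻¹) = z * σ y * z⁻¹ := Al.Gp.conj_apply (MulAut.conj z) σ y

theorem cs_frob (h : IsFrob p n σ) (z : YY D p) : IsFrob p n (cs z σ) := by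
  rw [cs, Al.Gp.conj_conj]
  exact h.conj_mul _

theorem fb_conj (h : Fb hp p n σ) (z : YY D p) : Fb hp p n (cs z σ) := by
  obtain ⟨y, g, h1⟩ := h.fr
  exact ⟨h.pos, cs_frob h.frob z, y * (z * (σ z)⁻¹)⁻¹, g, by rwa [cs, Al.Gp.conj_conj, Al.Gp.conj_eq]⟩

theorem tg_conj (z : YY D p) (h : Tg p l (cs z σ) (z * e * z⁻¹) (z * f * z⁻¹) k) : Tg p l σ e f k := by
  obtain ⟨s, m, h1, h2, h3, h4, h5, h6, h7, h8⟩ := h
  obtain ⟨s, rfl⟩ : ∃ t, s = z * t * z⁻¹ := ⟨z⁻¹ * s * z, by group⟩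
  have k : ∀ a b : YY D p, z * a * z⁻¹ = z * b * z⁻¹ → a = b := fun a b h => (MulAut.conj z).injective h
  refine ⟨s, m, k _ _ (by rw [← cs_apply, h1]), k _ _ (by rw [← conj_mul, h2, conj_mul]),
    k _ _ (by rw [← conj_mul, h3, conj_mul]), h4, h5, h6, k _ _ (by rw [← conj_pow, h7, mul_one, mul_inv_cancel]), ?_⟩
  rwa [conj_mul, dd_conj] at h8

theorem fx_conj (z : YY D p) : Module.finrank (KK p) (Fx p ({z * e * z⁻¹, z * f * z⁻¹} : Set (YY D p))) =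
    Module.finrank (KK p) (Fx p ({e, f} : Set (YY D p))) :=
  finrank_Fx_conj z fun y => by
    simp only [Set.mem_insert_iff, Set.mem_singleton_iff, mul_left_inj, mul_right_inj]

theorem row_d {c : List ℤ} {V : List (List ℤ)} {d : ℕ} (h : Row D r c V d k) :
    D = chevE7 ∧ d = 63 ∧ k = 2 ∨ D = chevE7 ∧ d = 79 ∧ k = 6 ∨ D = chevE6 ∧ d = 30 ∧ k = 0 :=
  h.imp (fun h => ⟨h.1, h.2.2.2.2⟩) (Or.imp (fun h => ⟨h.1, h.2.2.2.2⟩) fun h => ⟨h.1, h.2.2.2.2⟩)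

/-- the target for a quasi-semisimple pair -/
theorem tg_qs (B : Bx) (P : P2 p r e f) {w : M.Group} (Q : Qs hp p e f w) (hw : w ≠ 1) (F : Fb hp p n σ) (he : σ e = e)
    (hf : σ f = f) (h6 : D = chevE6 → dd p e = 30 ∧ dd p f = 30) :
    ∃ k, Tg p l σ e f k ∧ (D = chevE7 ∧ dd p e = 63 ∧ k = 2 ∨ D = chevE7 ∧ dd p e = 79 ∧ k = 6 ∨ D = chevE6 ∧ k = 0) := by
  obtain ⟨z, g, h1, h2, h3, h4⟩ := B.fr B.lang B.cur B.cj D l M hp p P.tp n σ e f w F he hf Q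
  obtain ⟨y, u, v, c, V, a1, a2, a3⟩ := B.nf D l M hp p P.tp r e f w P Q hw
  obtain ⟨k, a3⟩ := a3.resolve_right fun a4 => by
    have := (h6 a4.1.1).1
    omega
  refine ⟨k, tg_conj z ?_, (row_d a3).imp_right (Or.imp_right fun h => ⟨h.1, h.2.2⟩)⟩
  rw [cj_eq h1, cj_eq h2]
  have b : ∀ x, z * x = x * z → σ x = x → cs y (cs z σ) (y * x * y⁻¹) = y * x * y⁻¹ := fun x b1 b2 => by
    have b3 := cs_apply (σ := σ) z x
    rw [b2, cj_eq b1] at b3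
    rw [cs_apply, b3]
  refine tg_conj y (B.el B.lang B.cur B.tw B.lt63 B.lt79 B.lt30 D l M hp p P.tp n r _ k _ _ c V _ _ v F.pos
    (cs_frob (cs_frob F.frob z) y) ((a1.fr.mul h3).mul a1.fr.inv) (Al.Gp.gw_ac h4 u u fun x => ?_) (b e h1 he) (b f h2 hf)
    (P.conj y) a3 a2 fun hD => ?_)
  · exact congrArg (fun x => ac hp u (g x)) ((ac hp u).symm_apply_apply x)
  · obtain ⟨a, b1, b2, b3⟩ := B.d30 D l M hp p P.tp r k c V _ _ v (P.conj y) ((h6 hD).1 ▸ a3) a2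
      (by rw [dd_conj, (h6 hD).2])
    exact ⟨a, b1, b2, b3, B.neg D l M hp p P.tp v _ a b1.1 a2.rp b3⟩

end Asm

open Asm in
/-- **the result in the algebraic group** from the boxes -/
theorem boxY_of (B : Bx) : BoxY := by
  intro D l M hp p _ _ r e f P h
  obtain ⟨g, w, Q⟩ := exists_qs (hp := hp) B P
  have hw := ne_one Q fun k => h k.of_conj
  refine ⟨fun hD h24 => ?_, fun n σ F he hf h6 => ?_⟩
  · obtain ⟨y, u, v, c, V, -, a2, a3⟩ := B.nf D l M hp p P.tp r _ _ w (P.conj g) Q hw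
    rw [dd_conj, h24] at a3
    rw [← fx_conj g, ← fx_conj y]
    refine B.d24 D l M hp p P.tp r c V _ _ v ((P.conj g).conj y) (a3.resolve_left ?_).1 a2
    rintro ⟨k, a4⟩
    have := row_d a4
    omega
  · obtain ⟨k, h1, h2⟩ := tg_qs B (P.conj g) Q hw (fb_conj F g) (by rw [cs_apply, he]) (by rw [cs_apply, hf])
      (by rwa [dd_conj, dd_conj])
    exact ⟨k, tg_conj g h1, by rwa [dd_conj] at h2⟩

end Cfsg.Agent.N2.Ex.CC
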