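import Cfsg.Agent.N2.Ex.Al.Defs
import Cfsg.Agent.DS.Nt.Kac

/-!
# N2 (S3519), `E₆`, `E₇`: the four-groups and nine-groups that are not toral: interface (helper32)

Paper: `notes/N2/cc32.md`.  `R = ⟨e, f⟩`; the good element is `e * s`, `s` of prime order dividing `q² + q + 1`.

* `Cc Z` : the subgroup of `C(Z)` generated by the polynomial curves through `1`;
* `P2` (the pair), `Qs` (`f` fixes a Borel subgroup and a torus of `C(e)⁰`), `St` (the standard pairs), `Tg` (the target);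
* the boxes.
-/

set_option autoImplicit false
set_option linter.unusedSectionVars false
set_option maxHeartbeats 400000

namespace Cfsg.Agent.N2.Ex.CC

open CoxeterSystem Cfsg Cfsg.Lie Cfsg.Lie.ChevalleyDatum
open Cfsg.Agent.ChevalleyStructure Cfsg.Agent.ChevalleyStructure.CoxeterGeom Cfsg.Agent.Tits.Roots Cfsg.Agent.Nodes
  Cfsg.Agent.Nodes.BNOf Cfsg.Agent.Nodes.RGDChev Cfsg.Agent.Nodes.Coroot
open Cfsg.Agent.KFacts.RgdChevCoord Cfsg.Agent.BpExc.Fr Cfsg.Agent.BpExc.LangFr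
open Cfsg.Agent.H469.Exc Cfsg.Agent.H316.U6 Cfsg.Agent.H129.TorusChar Cfsg.Agent.DS.Ex Cfsg.Agent.DS.Nt
open Cfsg.Agent.DS.Ex.Tor (RT FR MS)
open Cfsg.Agent.N2.Ex.Al (LL cp ac GW Ch)
open Cfsg.Agent.H931.KC (psi)

/-- a list as a vector -/
def lv (l : ℕ) (L : List ℤ) : LL l := fun i => L.getD i 0

/-- the images of the simple roots under the symmetry of the extended diagram of `E₇` -/
def V7 : List (List ℤ) := [[0, 0, 0, 0, 0, 1, 0], [0, 1, 0, 0, 0, 0, 0], [0, 0, 0, 0, 1, 0, 0], [0, 0, 0, 1, 0, 0, 0],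
  [0, 0, 1, 0, 0, 0, 0], [1, 0, 0, 0, 0, 0, 0], [-2, -2, -3, -4, -3, -2, -1]]

/-- the images of the simple roots under the rotation of the extended diagram of `E₆` -/
def V6 : List (List ℤ) := [[0, 0, 0, 0, 0, 1], [0, 0, 1, 0, 0, 0], [0, 0, 0, 0, 1, 0], [0, 0, 0, 1, 0, 0],
  [0, 1, 0, 0, 0, 0], [-1, -2, -2, -3, -2, -1]]

/-- the inverse rotation -/
def W6 : List (List ℤ) := [[-1, -2, -2, -3, -2, -1], [0, 0, 0, 0, 1, 0], [0, 1, 0, 0, 0, 0], [0, 0, 0, 1, 0, 0],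
  [0, 0, 1, 0, 0, 0], [1, 0, 0, 0, 0, 0]]

/-- the rows `A₇`, `E₆ T₁`, `D₄ T₂`: `c` the character of `e`, `d = dd e`, `l + k` the bound for `dd (e * s)` -/
def Row (D : ChevalleyDatum) (r : ℕ) (c : List ℤ) (V : List (List ℤ)) (d k : ℕ) : Prop :=
  (D = chevE7 ∧ r = 2 ∧ V = V7 ∧ c = [0, 1, 0, 0, 0, 0, 0] ∧ d = 63 ∧ k = 2) ∨
  (D = chevE7 ∧ r = 2 ∧ V = V7 ∧ c = [0, 0, 0, 0, 0, 0, 1] ∧ d = 79 ∧ k = 6) ∨
  (D = chevE6 ∧ r = 3 ∧ (V = V6 ∨ V = W6) ∧ c = [1, 0, 0, 0, 0, 1] ∧ d = 30 ∧ k = 0)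

/-- the row `A₂³` -/
def Row24 (D : ChevalleyDatum) (r : ℕ) (c : List ℤ) (V : List (List ℤ)) : Prop :=
  D = chevE6 ∧ r = 3 ∧ (V = V6 ∨ V = W6) ∧ c = [0, 0, 0, 1, 0, 0]

section Defs

variable {D : ChevalleyDatum} {l : ℕ} {M : CoxeterMatrix (Fin l)} (hp : IsType D l M) (p : ℕ) [Fact p.Prime]

/-- the sum over the powers of `w` -/
noncomputable def Nw (r : ℕ) (w : M.Group) (x : LL l) : LL l := ∑ i ∈ Finset.range r, ac hp (w ^ i) x

/-- the roots killed by the character `c` modulo `r` -/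
def Pc (r : ℕ) (c : List ℤ) : Set (LL l) := {a | RT hp a ∧ (r : ℤ) ∣ psi (lv l c) a}

/-- `w` is the product of the reflections in the orbit of `a` under `v` -/
def Ro (r : ℕ) (v : M.Group) (a : LL l) (w : M.Group) : Prop :=
  ∀ x, ac hp w x = x - ∑ i ∈ Finset.range r, cp hp x (ac hp (v ^ i) a) • ac hp (v ^ i) a

/-- `w` is the reflection in `b` -/
def Rl (b : LL l) (w : M.Group) : Prop := ∀ x, ac hp w x = x - cp hp x b • b

/-- the orbit of `a` consists of `r` orthogonal roots -/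
def Ort (r : ℕ) (v : M.Group) (a : LL l) : Prop := ∀ i, 0 < i → i < r → cp hp (ac hp (v ^ i) a) a = 0

/-- polynomial curves through `1` in the centraliser of `Z` -/
def Cv (Z : Set (YY D p)) : Set (GL D.Idx (Polynomial (KK p))) :=
  {γ | LangThm.ev (0 : KK p) γ = 1 ∧
    ∀ a : KK p, ∃ y ∈ Subgroup.centralizer Z, (y : GL D.Idx (KK p)) = LangThm.ev a γ}

/-- the group generated by their points -/
noncomputable def Cc (Z : Set (YY D p)) : Subgroup (YY D p) :=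
  Subgroup.closure {y | ∃ γ ∈ Cv p Z, ∃ a : KK p, (y : GL D.Idx (KK p)) = LangThm.ev a γ}

/-- the pair -/
structure P2 (r : ℕ) (e f : YY D p) : Prop where
  typ : D = chevE6 ∧ r = 3 ∨ D = chevE7 ∧ r = 2
  ne : r ≠ p
  he : e ^ r = 1
  hf : f ^ r = 1
  comm : f * e = e * f

/-- `f` normalises the torus and the standard Borel subgroup of `C(e)⁰` -/
structure Qs (e f : YY D p) (w : M.Group) : Prop where
  mem : e ∈ TT D (KK p)
  rp : RP hp p w f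
  comm : f * e = e * f
  pos : ∀ a ∈ Ps hp p {e}, 0 ≤ a → 0 ≤ ac hp w a

/-- the standard pairs -/
structure St (r : ℕ) (c : List ℤ) (V : List (List ℤ)) (e f : YY D p) (v : M.Group) : Prop where
  mem : e ∈ TT D (KK p)
  chr : ∃ ζ : KK p, IsPrimitiveRoot ζ r ∧ ∀ x, cX hp e x = ζ ^ psi (lv l c) x
  rp : RP hp p v f
  mat : ∀ i : Fin l, ac hp v (sr i) = lv l (V.getD i [])

/-- `k` centralises the root group of `a` -/
def CX (l : ℕ) (k : YY D p) (a : LL l) : Prop := ∀ x ∈ XX D l (KK p) a, k * x = x * k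

/-- a Frobenius map -/
structure Fb (n : ℕ) (σ : MulAut (YY D p)) : Prop where
  pos : 0 < n
  frob : IsFrob p n σ
  fr : ∃ y g, FR hp p (MulAut.conj y * σ) g ∧ GW hp g

/-- **the target** -/
def Tg (l : ℕ) (σ : MulAut (YY D p)) (e f : YY D p) (k : ℕ) : Prop :=
  ∃ (s : YY D p) (m : ℕ), σ s = s ∧ s * e = e * s ∧ s * f = f * s ∧ m.Prime ∧ 5 ≤ m ∧ m ≠ p ∧ s ^ m = 1 ∧
    dd p (e * s) ≤ l + k

variable {p}

theorem Cc_le (Z : Set (YY D p)) : Cc p Z ≤ Subgroup.centralizer Z := (Subgroup.closure_le _).2 (by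
  rintro y ⟨γ, hγ, a, h⟩
  obtain ⟨z, hz, e⟩ := hγ.2 a
  rwa [show y = z from Subtype.ext (h.trans e.symm)])

theorem P2.tp {r : ℕ} {e f : YY D p} (h : P2 p r e f) : Typ D :=
  h.typ.elim (fun h => .inr (.inl h.1)) fun h => .inr (.inr (.inl h.1))

theorem P2.prime {r : ℕ} {e f : YY D p} (h : P2 p r e f) : r.Prime :=
  h.typ.elim (fun h => h.2 ▸ Nat.prime_three) fun h => h.2 ▸ Nat.prime_two

theorem P2.conj {r : ℕ} {e f : YY D p} (h : P2 p r e f) (g : YY D p) : P2 p r (g * e * g⁻¹) (g * f * g⁻¹) :=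
  ⟨h.typ, h.ne, by rw [conj_pow, h.he, mul_one, mul_inv_cancel], by rw [conj_pow, h.hf, mul_one, mul_inv_cancel],
    conj_comm h.comm⟩

variable {hp}

theorem St.ps {r : ℕ} {c : List ℤ} {V : List (List ℤ)} {e f : YY D p} {v : M.Group} (h : St hp p r c V e f v) :
    Ps hp p {e} = Pc hp r c := by
  obtain ⟨ζ, h1, h2⟩ := h.chr
  ext a
  rw [mem_Ps (Set.singleton_subset_iff.2 h.mem)]
  refine and_congr_right fun _ => ?_
  rw [← h1.zpow_eq_one_iff_dvd, ← h2]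
  exact ⟨fun k => k e rfl, fun k t ht => ht ▸ k⟩

end Defs

/-- a property of the algebraic group -/
abbrev PY : Type := ∀ (D : ChevalleyDatum) (l : ℕ) (M : CoxeterMatrix (Fin l)) (_ : IsType D l M) (p : ℕ) [Fact p.Prime], Prop

/-- `P` holds for all types -/
def Ay (P : PY) : Prop := ∀ (D : ChevalleyDatum) (l : ℕ) (M : CoxeterMatrix (Fin l)) (hp : IsType D l M) (p : ℕ)
  [Fact p.Prime], Typ D → P D l M hp p

/-- [Lang] Lang's theorem for `Cc Z` -/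
def BoxLang : Prop := Ay fun D _ _ _ p _ => ∀ (n : ℕ) (σ : MulAut (YY D p)) (Z : Set (YY D p)), 0 < n → IsFrob p n σ →
  (∀ z ∈ Z, σ z = z) → ∀ c ∈ Cc p Z, ∃ z ∈ Cc p Z, c = z⁻¹ * σ z

/-- [Cur] unipotent elements contracted by a cocharacter -/
def BoxCur : Prop := Ay fun D l _ hp p _ => ∀ (μ : LL l →+ ℤ) (S : Set (LL l)) (Z : Set (YY D p)) (u : YY D p),
  (∀ a ∈ S, RT hp a ∧ 0 < μ a) → u ∈ MS D p S → (∀ z ∈ Z, z * u = u * z) →
  (∀ t ∈ TT D (KK p), ∀ c : KK p, c ≠ 0 → (∀ x, cX hp t x = c ^ μ x) → ∀ z ∈ Z, z * t = t * z) → u ∈ Cc p Z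

/-- [Neg] -/
def BoxNeg : Prop := Ay fun D l M hp p _ => ∀ (w : M.Group) (k : YY D p) (a : LL l), RT hp a → RP hp p w k →
  CX p l k a → CX p l k (-a)

/-- [QA] `f` fixes a maximal torus of `C(e)⁰` -/
def BoxQA : Prop := Ay fun D _ _ hp p _ => ∀ (r : ℕ) (e f : YY D p), P2 p r e f → e ∈ TT D (KK p) →
  ∃ g : YY D p, g * e = e * g ∧ ∃ w, RP hp p w (g * f * g⁻¹)

/-- [QB] a better torus, `r = r₀` -/
def BoxQB (r₀ : ℕ) : Prop := BoxNeg → Ay fun D l M hp p _ => ∀ (e f : YY D p) (w : M.Group) (a : LL l), P2 p r₀ e f →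
  e ∈ TT D (KK p) → RP hp p w f → a ∈ Ps hp p {e} → Nw hp r₀ w a = 0 →
  ∃ (g : YY D p) (w' : M.Group), g * e = e * g ∧ RP hp p w' (g * f * g⁻¹) ∧ ac hp w' a = a ∧
    ∀ x, Nw hp r₀ w' x = 0 → Nw hp r₀ w x = 0

/-- [QC] the best torus -/
def BoxQC : Prop := Ay fun D _ M hp p _ => ∀ (r : ℕ) (e f : YY D p) (w : M.Group), P2 p r e f →
  e ∈ TT D (KK p) → RP hp p w f → (∀ a ∈ Ps hp p {e}, Nw hp r w a ≠ 0) →
  ∃ (g : YY D p) (w' : M.Group), g * e = e * g ∧ Qs hp p e (g * f * g⁻¹) w'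

/-- [Cj] conjugacy of the frames under `Cc` -/
def BoxCj : Prop := BoxCur → Ay fun D _ M hp p _ => ∀ (e f e' f' y : YY D p) (w w' : M.Group), Qs hp p e f w →
  Qs hp p e' f' w' → y * e' * y⁻¹ = e → y * f' * y⁻¹ = f → ∃ c ∈ Cc p {e, f}, ∃ u, RP hp p u (c⁻¹ * y)

/-- [Fr] a stable frame -/
def BoxFr : Prop := BoxLang → BoxCur → BoxCj → Ay fun D _ M hp p _ => ∀ (n : ℕ) (σ : MulAut (YY D p)) (e f : YY D p)
  (w : M.Group), Fb hp p n σ → σ e = e → σ f = f → Qs hp p e f w →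
  ∃ z g, z * e = e * z ∧ z * f = f * z ∧ FR hp p (MulAut.conj z * σ * (MulAut.conj z)⁻¹) g ∧ GW hp g

/-- [Nf] normal forms -/
def BoxNf : Prop := Ay fun D _ M hp p _ => ∀ (r : ℕ) (e f : YY D p) (w : M.Group), P2 p r e f → Qs hp p e f w → w ≠ 1 →
  ∃ (g : YY D p) (u v : M.Group) (c : List ℤ) (V : List (List ℤ)), RP hp p u g ∧
    St hp p r c V (g * e * g⁻¹) (g * f * g⁻¹) v ∧ ((∃ k, Row D r c V (dd p e) k) ∨ (Row24 D r c V ∧ dd p e = 24))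

/-- [Tw] reflections of the folded system in `Cc` -/
def BoxTw : Prop := BoxCur → Ay fun D l M hp p _ => ∀ (r : ℕ) (e f : YY D p) (v : M.Group) (a : LL l), P2 p r e f →
  e ∈ TT D (KK p) → RP hp p v f → a ∈ Ps hp p {e} →
  (Ort hp r v a → ∃ n ∈ Cc p {e, f}, ∃ w, RP hp p w n ∧ Ro hp r v a w) ∧
  (CX p l f a → CX p l f (-a) → ∃ n ∈ Cc p {e, f}, ∃ w, RP hp p w n ∧ Rl hp a w)

/-- [Lt] the lattice, rows with `dd e = d₀` -/
def BoxLt (d₀ : ℕ) : Prop := ∀ (D : ChevalleyDatum) (l : ℕ) (M : CoxeterMatrix (Fin l)) (hp : IsType D l M) (r k : ℕ)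
  (c : List ℤ) (V : List (List ℤ)) (v : M.Group) (W : Subgroup M.Group) (g : LL l ≃+ LL l) (q m : ℕ), Row D r c V d₀ k →
  (∀ i : Fin l, ac hp v (sr i) = lv l (V.getD i [])) →
  (∀ a ∈ Pc hp r c, Ort hp r v a → ∃ w ∈ W, Ro hp r v a w) →
  (D = chevE6 → ∃ b ∈ Pc hp r c, ac hp v b = b ∧ ∃ w ∈ W, Rl hp b w) →
  GW hp g → (∀ x, g (ac hp v x) = ac hp v (g x)) → (∀ a ∈ Pc hp r c, g a ∈ Pc hp r c) →
  m.Prime → 5 ≤ m → m ∣ q ^ 2 + q + 1 →
  ∃ w ∈ W, ∃ φ : LL l →+ ℤ, Ch q (g.trans (ac hp w)) m φ ∧ (∀ x, φ (ac hp v x) = φ x) ∧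
    {a ∈ Pc hp r c | (m : ℤ) ∣ φ a}.ncard ≤ k

/-- [D30] a fixed long root of `G₂` -/
def BoxD30 : Prop := Ay fun D l M hp p _ => ∀ (r k : ℕ) (c : List ℤ) (V : List (List ℤ)) (e f : YY D p) (v : M.Group),
  P2 p r e f → Row D r c V 30 k → St hp p r c V e f v → dd p f = 30 → ∃ b ∈ Pc hp r c, ac hp v b = b ∧ CX p l f b

/-- [D24] the fixed vectors in the row `A₂³` -/
def BoxD24 : Prop := Ay fun D _ M hp p _ => ∀ (r : ℕ) (c : List ℤ) (V : List (List ℤ)) (e f : YY D p) (v : M.Group),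
  P2 p r e f → Row24 D r c V → St hp p r c V e f v → 7 ≤ Module.finrank (KK p) (Fx p ({e, f} : Set (YY D p)))

/-- [El] the element, in a standard stable frame -/
def BoxEl : Prop := BoxLang → BoxCur → BoxTw → BoxLt 63 → BoxLt 79 → BoxLt 30 → Ay fun D l M hp p _ =>
  ∀ (n r d k : ℕ) (σ : MulAut (YY D p)) (g : LL l ≃+ LL l) (c : List ℤ) (V : List (List ℤ)) (e f : YY D p) (v : M.Group),
  0 < n → IsFrob p n σ → FR hp p σ g → GW hp g → σ e = e → σ f = f → P2 p r e f → Row D r c V d k → St hp p r c V e f v →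
  (D = chevE6 → ∃ b ∈ Pc hp r c, ac hp v b = b ∧ CX p l f b ∧ CX p l f (-b)) → Tg p l σ e f k

/-- **the result in the algebraic group** -/
def BoxY : Prop := Ay fun D l _ hp p _ => ∀ (r : ℕ) (e f : YY D p), P2 p r e f → ¬ Tp p e f →
  (D = chevE6 → dd p e = 24 → 7 ≤ Module.finrank (KK p) (Fx p ({e, f} : Set (YY D p)))) ∧
  ∀ (n : ℕ) (σ : MulAut (YY D p)), Fb hp p n σ → σ e = e → σ f = f → (D = chevE6 → dd p e = 30 ∧ dd p f = 30) →
    ∃ k, Tg p l σ e f k ∧ (D = chevE7 ∧ dd p e = 63 ∧ k = 2 ∨ D = chevE7 ∧ dd p e = 79 ∧ k = 6 ∨ D = chevE6 ∧ k = 0)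

/-- [Fin] the finite group -/
def BoxFin : Prop := BoxY → BoxCC

end Cfsg.Agent.N2.Ex.CC
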