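import Cfsg.Agent.N2.Ex.CC.Defs
import Cfsg.Agent.N2.Ex.Al.TbD

/-!
# N2 (S3519): the lattice box for the row `D₄ T₂` of `E₆` (helper15)

The fixed roots of `v` form a system `A₂` with base `x₁, x₂`; `W` induces on it the dihedral group of order `12`.
-/

set_option autoImplicit false
set_option linter.unusedSectionVars false
set_option maxRecDepth 100000
set_option synthInstance.maxSize 2000

namespace Cfsg.Agent.N2.Ex.CC

open CoxeterSystem Cfsg Cfsg.Lie Cfsg.Lie.ChevalleyDatum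
open Cfsg.Agent.ChevalleyStructure Cfsg.Agent.ChevalleyStructure.CoxeterGeom Cfsg.Agent.Tits.Roots Cfsg.Agent.Nodes
  Cfsg.Agent.Nodes.BNOf Cfsg.Agent.Nodes.RGDChev Cfsg.Agent.Nodes.Coroot
open Cfsg.Agent.DS.Ex Cfsg.Agent.DS.Nt
open Cfsg.Agent.DS.Ex.Tor (RT FR MS)
open Cfsg.Agent.N2.Ex.Al (LL cp ac GW Ch)
open Cfsg.Agent.H931.KC (psi)
open Cfsg.Agent.N2.Ex.Al.Ck

namespace L30

/-- the root with the index `r` -/
abbrev vc (r : ℕ) : LL 6 := tbE6.vec 6 r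

/-- the Cartan integer -/
abbrev ci (r s : ℕ) : ℤ := (tbE6.c r s : ℤ) - 2

/-- the linear map with the rows `V` -/
def vm (V : List (List ℤ)) (x : LL 6) : LL 6 := fun j => ∑ i : Fin 6, x i * (V.getD i []).getD j 0

/-- a combination of the two fixed roots -/
def cb (a b : ℤ) : LL 6 := a • vc 3 + b • vc 18

/-- the dihedral group -/
def L12 : List (ℤ × ℤ × ℤ × ℤ) := [(1, 0, 0, 1), (0, 1, 1, 0), (-1, -1, 0, 1), (1, 0, -1, -1), (0, 1, -1, -1), (-1, -1, 1, 0),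
  (-1, 0, 0, -1), (0, -1, -1, 0), (1, 1, 0, -1), (-1, 0, 1, 1), (0, -1, 1, 1), (1, 1, -1, 0)]

/-- the long reflections -/
def L3 : List (ℤ × ℤ × ℤ × ℤ) := [(0, -1, -1, 0), (1, 1, 0, -1), (-1, 0, 1, 1)]

/-- an orthogonal orbit in `D₄` -/
def Ob (V : List (List ℤ)) (a b c : ℕ) (f : ℤ × ℤ × ℤ × ℤ) : Prop :=
  a < 72 ∧ b < 72 ∧ c < 72 ∧ vm V (vc a) = vc b ∧ vm V (vc b) = vc c ∧ ci b a = 0 ∧ ci c a = 0 ∧
    vc a 0 = 0 ∧ vc a 5 = 0 ∧ vc 3 - (ci 3 a • vc a + ci 3 b • vc b + ci 3 c • vc c) = cb f.1 f.2.1 ∧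
    vc 18 - (ci 18 a • vc a + ci 18 b • vc b + ci 18 c • vc c) = cb f.2.2.1 f.2.2.2

instance (V : List (List ℤ)) (a b c : ℕ) (f : ℤ × ℤ × ℤ × ℤ) : Decidable (Ob V a b c f) := by
  unfold Ob; infer_instance

/-- the facts on `V` -/
structure Fc (V : List (List ℤ)) : Prop where
  f1 : vm V (vc 3) = vc 3
  f2 : vm V (vc 18) = vc 18
  pr : ∀ r < 72, vm V (vc r) = vc r → ∀ s < 72, vm V (vc s) = vc s → ci r s = -1 →
    ∃ f ∈ L12, vc r = cb f.1 f.2.1 ∧ vc s = cb f.2.2.1 f.2.2.2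
  lg : ∀ r < 72, vm V (vc r) = vc r →
    ∃ f ∈ L3, vc 3 - ci 3 r • vc r = cb f.1 f.2.1 ∧ vc 18 - ci 18 r • vc r = cb f.2.2.1 f.2.2.2
  o1 : ∃ b c, Ob V 4 b c (0, 1, 1, 0)
  o2 : ∃ b c, Ob V 9 b c (-1, -1, 0, 1)

theorem fc_V6 : Fc V6 := ⟨by decide +kernel, by decide +kernel, by decide +kernel, by decide +kernel,
  ⟨1, 2, by decide +kernel⟩, ⟨7, 8, by decide +kernel⟩⟩

theorem fc_W6 : Fc W6 := ⟨by decide +kernel, by decide +kernel, by decide +kernel, by decide +kernel,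
  ⟨2, 1, by decide +kernel⟩, ⟨8, 7, by decide +kernel⟩⟩

theorem nrm : ∀ r < 72, (3 : ℤ) ∣ vc r 0 + vc r 5 →
    ci r 3 ^ 2 + ci r 3 * ci r 18 + ci r 18 ^ 2 = 1 ∨ ci r 3 ^ 2 + ci r 3 * ci r 18 + ci r 18 ^ 2 = 3 := by decide +kernel

theorem thr : (∀ i : Fin 6, ci i 59 = -ci i 3 - ci i 18) ∧ vc 59 = cb (-1) (-1) ∧ ci 3 18 = -1 := by decide +kernel

theorem cb_10 : cb 1 0 = vc 3 := by rw [cb, one_smul, zero_smul, add_zero]

theorem cb_01 : cb 0 1 = vc 18 := by rw [cb, one_smul, zero_smul, zero_add]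

theorem psi_eq (x : LL 6) : psi (lv 6 [1, 0, 0, 0, 0, 1]) x = x 0 + x 5 := by
  rw [H931.KC.psi_apply]
  simp [Fin.sum_univ_six, lv]

variable {M : CoxeterMatrix (Fin 6)} (hp : IsType chevE6 6 M)

theorem ac_vm {V : List (List ℤ)} {v : M.Group} (h : ∀ i : Fin 6, ac hp v (sr i) = lv 6 (V.getD i [])) (x : LL 6) :
    ac hp v x = vm V x := by
  conv_lhs => rw [← Finset.univ_sum_single x]
  rw [map_sum]
  funext j
  rw [Finset.sum_apply]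
  refine Finset.sum_congr rfl fun i _ => ?_
  have e : (Pi.single i (x i) : LL 6) = x i • sr i := by rw [sr, ← Pi.single_smul, smul_eq_mul, mul_one]
  rw [e, map_zsmul, h]
  rfl

/-- some element of `W` has the matrix `f` on the fixed roots -/
def Mx (W : Subgroup M.Group) (f : ℤ × ℤ × ℤ × ℤ) : Prop :=
  ∃ w ∈ W, ac hp w (vc 3) = cb f.1 f.2.1 ∧ ac hp w (vc 18) = cb f.2.2.1 f.2.2.2

variable {hp} {W : Subgroup M.Group}

theorem Mx.mul {a b c d a' b' c' d' : ℤ} (h : Mx hp W (a, b, c, d)) (h' : Mx hp W (a', b', c', d')) :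
    Mx hp W (a' * a + b' * c, a' * b + b' * d, c' * a + d' * c, c' * b + d' * d) := by
  obtain ⟨w, hw, h1, h2⟩ := h
  obtain ⟨w', hw', h1', h2'⟩ := h'
  refine ⟨w * w', mul_mem hw hw', ?_, ?_⟩
  · rw [ac_mul, h1', cb, map_add, map_zsmul, map_zsmul, h1, h2]
    simp only [cb]
    module
  · rw [ac_mul, h2', cb, map_add, map_zsmul, map_zsmul, h1, h2]
    simp only [cb]
    module

theorem all12 (h1 : Mx hp W (0, 1, 1, 0)) (h2 : Mx hp W (-1, -1, 0, 1)) {f : ℤ × ℤ × ℤ × ℤ} (hf : f ∈ L3) (h3 : Mx hp W f) :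
    ∀ f ∈ L12, Mx hp W f := by
  have a1 : Mx hp W (1, 0, 0, 1) := h1.mul h1
  have a2 : Mx hp W (-1, -1, 1, 0) := h1.mul h2
  have a3 : Mx hp W (0, 1, -1, -1) := a2.mul a2
  have a4 : Mx hp W (1, 0, -1, -1) := h2.mul a2
  have a5 : Mx hp W (-1, 0, 0, -1) := by
    simp only [L3, List.mem_cons, List.not_mem_nil, or_false] at hf
    rcases hf with rfl | rfl | rfl
    · exact h3.mul h1
    · exact h3.mul h2
    · exact h3.mul a4
  simp only [L12, List.forall_mem_cons]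
  exact ⟨a1, h1, h2, a4, a3, a2, a5, a5.mul h1, a5.mul h2, a5.mul a4, a5.mul a3, a5.mul a2, fun _ h => absurd h
    List.not_mem_nil⟩

theorem mx_ob {V : List (List ℤ)} {v : M.Group} (hv : ∀ x, ac hp v x = vm V x) {a b c : ℕ} {f : ℤ × ℤ × ℤ × ℤ}
    (h : Ob V a b c f) (hO : ∀ a ∈ Pc hp 3 [1, 0, 0, 0, 0, 1], Ort hp 3 v a → ∃ w ∈ W, Ro hp 3 v a w) : Mx hp W f := by
  have G := (gsE6 hp).toGt
  obtain ⟨ha, hb, hc, e1, e2, c1, c2, z1, z2, k1, k2⟩ := h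
  have p0 : ac hp (v ^ 0) (vc a) = vc a := by rw [pow_zero, ac_one]
  have p1 : ac hp (v ^ 1) (vc a) = vc b := by rw [pow_one, hv, e1]
  have p2 : ac hp (v ^ 2) (vc a) = vc c := by rw [pow_two, ac_mul, hv (vc a), e1, hv, e2]
  obtain ⟨w, hw, hR⟩ := hO (vc a) ⟨G.root a ha, by rw [psi_eq, z1, z2]; exact dvd_zero _⟩ fun i h0 h3 => by
    obtain rfl | rfl : i = 1 ∨ i = 2 := by omega
    · rw [p1, G.cpe b hb a ha]; exact c1
    · rw [p2, G.cpe c hc a ha]; exact c2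
  have k : ∀ s < 72, ac hp w (vc s) = vc s - (ci s a • vc a + ci s b • vc b + ci s c • vc c) := fun s hs => by
    rw [hR, Finset.sum_range_succ, Finset.sum_range_succ, Finset.sum_range_one, p0, p1, p2, G.cpe s hs a ha,
      G.cpe s hs b hb, G.cpe s hs c hc]
  exact ⟨w, hw, (k 3 (by decide)).trans k1, (k 18 (by decide)).trans k2⟩

/-- the pairing with a root as a homomorphism -/
noncomputable def cpH {a : LL 6} (ha : RT hp a) : LL 6 →+ ℤ := AddMonoidHom.mk' (fun x => cp hp x a) fun x y =>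
  cp_add hp x y ha

theorem main {V : List (List ℤ)} (F : Fc V) {v : M.Group} {g : LL 6 ≃+ LL 6} {q m : ℕ}
    (hv : ∀ x, ac hp v x = vm V x) (hO : ∀ a ∈ Pc hp 3 [1, 0, 0, 0, 0, 1], Ort hp 3 v a → ∃ w ∈ W, Ro hp 3 v a w)
    (hb : ∃ b ∈ Pc hp 3 [1, 0, 0, 0, 0, 1], ac hp v b = b ∧ ∃ w ∈ W, Rl hp b w) (hg : GW hp g)
    (hc : ∀ x, g (ac hp v x) = ac hp v (g x)) (h5 : 5 ≤ m) (hd : m ∣ q ^ 2 + q + 1) :
    ∃ w ∈ W, ∃ φ : LL 6 →+ ℤ, Ch q (g.trans (ac hp w)) m φ ∧ (∀ x, φ (ac hp v x) = φ x) ∧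
      {a ∈ Pc hp 3 [1, 0, 0, 0, 0, 1] | (m : ℤ) ∣ φ a}.ncard ≤ 0 := by
  have G := (gsE6 hp).toGt
  have r1 : RT hp (vc 3) := G.root 3 (by decide)
  have r2 : RT hp (vc 18) := G.root 18 (by decide)
  have r3 : RT hp (vc 59) := G.root 59 (by decide)
  have v1 : ac hp v (vc 3) = vc 3 := (hv _).trans F.f1
  have v2 : ac hp v (vc 18) = vc 18 := (hv _).trans F.f2
  have hd' : (m : ℤ) ∣ (q : ℤ) ^ 2 + q + 1 := by exact_mod_cast hd
  have hA : ∀ f ∈ L12, Mx hp W f := by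
    obtain ⟨b1, c1, o1⟩ := F.o1
    obtain ⟨b2, c2, o2⟩ := F.o2
    obtain ⟨b, ⟨hb, -⟩, e, w, hw, hR⟩ := hb
    obtain ⟨r, hr, rfl⟩ := G.surj b hb
    obtain ⟨f, hf, k1, k2⟩ := F.lg r hr ((hv _).symm.trans e)
    exact all12 (mx_ob hv o1 hO) (mx_ob hv o2 hO) hf ⟨w, hw, by rw [hR, G.cpe 3 (by decide) r hr]; exact k1,
      by rw [hR, G.cpe 18 (by decide) r hr]; exact k2⟩
  obtain ⟨r, hr, er⟩ := G.surj _ (gw_rt hg r1)
  obtain ⟨s, hs, es⟩ := G.surj _ (gw_rt hg r2)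
  obtain ⟨f, hf, k1, k2⟩ := F.pr r hr (by rw [← hv]; show ac hp v (tbE6.vec 6 r) = tbE6.vec 6 r; rw [er, ← hc, v1]) s hs
    (by rw [← hv]; show ac hp v (tbE6.vec 6 s) = tbE6.vec 6 s; rw [es, ← hc, v2])
    (by
      have := G.cpe r hr s hs
      rw [er, es, gw_cp hg _ r2, G.cpe 3 (by decide) 18 (by decide)] at this
      exact this.symm.trans thr.2.2)
  obtain ⟨w0, hw0, a1, a2⟩ := hA f hf
  obtain ⟨w1, hw1, b1, b2⟩ := hA (0, 1, -1, -1) (by decide)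
  have g1 : ac hp (w1 * w0⁻¹) (g (vc 3)) = vc 18 := by rw [ac_mul, ← er, show tbE6.vec 6 r = _ from k1, ← a1, ac_inv, b1, cb_01]
  have g2 : ac hp (w1 * w0⁻¹) (g (vc 18)) = cb (-1) (-1) := by
    rw [ac_mul, ← es, show tbE6.vec 6 s = _ from k2, ← a2, ac_inv, b2]
  have g3 : ac hp (w1 * w0⁻¹) (g (vc 59)) = vc 3 := by
    rw [thr.2.1, cb, map_add, map_add, map_zsmul, map_zsmul, map_zsmul, map_zsmul, g1, g2, cb]
    module
  have c3 : ∀ x, cp hp x (vc 59) = -cp hp x (vc 3) - cp hp x (vc 18) := fun x =>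
    DFunLike.congr_fun (hom_ext (f := cpH r3) (g := -cpH r1 - cpH r2) fun i => by
      show cp hp (sr i) (vc 59) = -cp hp (sr i) (vc 3) - cp hp (sr i) (vc 18)
      rw [← G.sim i, G.cpe i (G.lt_n i) 59 (by decide), G.cpe i (G.lt_n i) 3 (by decide),
        G.cpe i (G.lt_n i) 18 (by decide)]
      exact thr.1 i) x
  refine ⟨w1 * w0⁻¹, mul_mem hw1 (inv_mem hw0), cpH r1 + ((q : ℤ) + 1) • cpH r2, fun x => ?_, fun x => ?_, ?_⟩
  · show (m : ℤ) ∣ cp hp (ac hp (w1 * w0⁻¹) (g x)) (vc 3) + ((q : ℤ) + 1) * cp hp (ac hp (w1 * w0⁻¹) (g x)) (vc 18) -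
      q * (cp hp x (vc 3) + ((q : ℤ) + 1) * cp hp x (vc 18))
    have e1 := cp_ac hp (w1 * w0⁻¹) (g x) (gw_rt hg r1)
    have e3 := cp_ac hp (w1 * w0⁻¹) (g x) (gw_rt hg r3)
    rw [g1, gw_cp hg _ r1] at e1
    rw [g3, gw_cp hg _ r3, c3] at e3
    rw [e1, e3]
    exact (hd'.mul_right (-cp hp x (vc 18))).trans (dvd_of_eq (by ring))
  · show cp hp (ac hp v x) (vc 3) + ((q : ℤ) + 1) * cp hp (ac hp v x) (vc 18) =
      cp hp x (vc 3) + ((q : ℤ) + 1) * cp hp x (vc 18)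
    rw [← cp_ac hp v x r1, ← cp_ac hp v x r2, v1, v2]
  · rw [Nat.le_zero, Set.eq_empty_of_forall_notMem (s := {a ∈ Pc hp 3 [1, 0, 0, 0, 0, 1] | _}), Set.ncard_empty]
    rintro a ⟨⟨ha, h3⟩, h⟩
    obtain ⟨t, ht, rfl⟩ := G.surj a ha
    have h' : (m : ℤ) ∣ ci t 3 + ((q : ℤ) + 1) * ci t 18 := by
      rw [ci, ci, ← G.cpe t ht 3 (by decide), ← G.cpe t ht 18 (by decide)]
      exact h
    have k : (m : ℤ) ∣ ci t 3 ^ 2 + ci t 3 * ci t 18 + ci t 18 ^ 2 :=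
      (dvd_add (h'.mul_right (ci t 3 - q * ci t 18)) (hd'.mul_right (ci t 18 ^ 2))).trans (dvd_of_eq (by ring))
    rw [psi_eq] at h3
    rcases nrm t ht h3 with e | e <;> rw [e] at k <;> have := Int.le_of_dvd (by decide) k <;> omega

end L30

/-- **the lattice, row `D₄ T₂`** -/
theorem boxLt30 : BoxLt 30 := by
  intro D l M hp r k c V v W g q m hR hv hO hb hg hc _ _ h5 hd
  rcases hR with ⟨-, -, -, -, h, -⟩ | ⟨-, -, -, -, h, -⟩ | ⟨rfl, rfl, hV, rfl, -, rfl⟩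
  · omega
  · omega
  · obtain rfl := (typ_l hp).2.1 rfl
    exact L30.main (hV.elim (fun h => h ▸ L30.fc_V6) fun h => h ▸ L30.fc_W6) (L30.ac_vm hp hv) hO (hb rfl) hg hc h5 hd

end Cfsg.Agent.N2.Ex.CC
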